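import Mathlib

/-!
The product over an orbit of an abelian `p`-group acting quadratically on an abelian group: it is
`u ^ |orbit|` except possibly for orbits of length two.
-/

set_option autoImplicit false

namespace CfsgLib.WeakClosureJ

variable {H W : Type*} [CommGroup H] [Fintype H] [CommGroup W]

/-- The square of the product of the values of a homomorphism is one. -/
theorem prod_hom_sq (f : H →* W) : (∏ h, f h) * (∏ h, f h) = 1 := by
  have h1 : (∏ h, f h) = ∏ h, f h⁻¹ :=
    (Fintype.prod_equiv (Equiv.inv H) _ _ fun h => rfl).symm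
  calc (∏ h, f h) * (∏ h, f h) = (∏ h, f h) * ∏ h, f h⁻¹ := by rw [← h1]
    _ = 1 := by rw [← Finset.prod_mul_distrib]; simp

/-- For odd order the product is one. -/
theorem prod_hom_eq_one_of_odd (f : H →* W) (hodd : Odd (Nat.card H)) : ∏ h, f h = 1 := by
  have h1 : (∏ h : H, h) * (∏ h : H, h) = 1 := prod_hom_sq (MonoidHom.id H)
  have h2 : (∏ h : H, h) = 1 := by
    refine orderOf_eq_one_iff.1 (Nat.eq_one_of_dvd_coprimes (Nat.coprime_two_left.2 hodd)
      (orderOf_dvd_of_pow_eq_one (by rw [sq]; exact h1)) (orderOf_dvd_natCard _))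
  rw [← map_prod, h2, map_one]

/-- For a 2-group of order at least four and values of order at most two the product is one. -/
theorem prod_hom_eq_one_of_two (f : H →* W) (hH : IsPGroup 2 H) (h4 : 4 ≤ Nat.card H)
    (hf : ∀ h, f h * f h = 1) : ∏ h, f h = 1 := by
  classical
  haveI : Fact (Nat.Prime 2) := ⟨Nat.prime_two⟩
  obtain ⟨n, hn⟩ := IsPGroup.iff_card.1 hH
  obtain ⟨m, rfl⟩ : ∃ m, n = m + 2 := by
    refine ⟨n - 2, ?_⟩
    rcases n with _ | _ | n
    · rw [hn] at h4; norm_num at h4
    · rw [hn] at h4; norm_num at h4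
    · omega
  obtain ⟨a, ha⟩ := exists_prime_orderOf_dvd_card' (G := H) 2
    (by rw [hn]; exact dvd_pow_self 2 (by omega))
  set C := Subgroup.zpowers a with hC
  have hCc : Nat.card C = 2 := by rw [hC, Nat.card_zpowers, ha]
  have hQ : Nat.card (H ⧸ C) = 2 * 2 ^ m := by
    have := C.index_mul_card
    rw [hCc, hn, pow_add] at this
    rw [Subgroup.index] at this
    omega
  haveI : Fintype (H ⧸ C) := Fintype.ofFinite _
  haveI : Fintype C := Fintype.ofFinite _
  have key : ∀ q : H ⧸ C, ∏ c : C, f (q.out * c) = ∏ c : C, f c := by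
    intro q
    simp only [map_mul, Finset.prod_mul_distrib, Finset.prod_const, Finset.card_univ,
      ← Nat.card_eq_fintype_card, hCc, sq, hf, one_mul]
  let e : (H ⧸ C) × C ≃ H :=
    { toFun := fun x => x.1.out * x.2
      invFun := fun h => (QuotientGroup.mk h, ⟨(QuotientGroup.mk h : H ⧸ C).out⁻¹ * h,
        QuotientGroup.eq.1 (QuotientGroup.out_eq' _)⟩)
      left_inv := fun x => by
        have h1 : (QuotientGroup.mk (x.1.out * (x.2 : H)) : H ⧸ C) = x.1 := by
          rw [QuotientGroup.mk_mul_of_mem _ x.2.2, QuotientGroup.out_eq']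
        refine Prod.ext h1 (Subtype.ext ?_)
        simp only [h1, inv_mul_cancel_left]
      right_inv := fun h => mul_inv_cancel_left _ _ }
  rw [← Fintype.prod_equiv e (fun x => f (x.1.out * x.2)) _ (fun x => rfl), Fintype.prod_prod_type]
  simp only [key, Finset.prod_const, Finset.card_univ, ← Nat.card_eq_fintype_card, hQ]
  have h2 := prod_hom_sq (f.comp C.subtype)
  simp only [MonoidHom.comp_apply, Subgroup.coe_subtype] at h2
  rw [pow_mul, sq, h2, one_pow]

/-- The orbit product. `B` fixes `w`, and `u` is `w` or its `p`-th power. -/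
theorem orbit_prod {A : Type*} [CommGroup A] [Finite A] {p : ℕ} [Fact p.Prime] (hA : IsPGroup p A)
    (ρ : A →* MulAut W) (hquad : ∀ a b : A, ∀ v : W, ρ a (ρ b v * v⁻¹) = ρ b v * v⁻¹)
    (B : Subgroup A) [Fintype (A ⧸ B)] (w u : W) (hB : ∀ b ∈ B, ρ b w = w)
    (hu : u = w ∨ u = w ^ p) (hu2 : ∀ a, ρ a (u ^ p) = u ^ p)
    (hcase : p ≠ 2 ∨ u = w ^ p ∨ Nat.card (A ⧸ B) ≠ 2)
    (F : A ⧸ B → W) (hF : ∀ a : A, F a = ρ a u) :
    ∏ q, F q = u ^ Nat.card (A ⧸ B) := by
  classical
  have hA' : IsPGroup p (A ⧸ B) := hA.to_quotient B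
  let D : W → A →* W := fun v => MonoidHom.mk' (fun a => ρ a v * v⁻¹) fun a b => by
    show ρ (a * b) v * v⁻¹ = ρ a v * v⁻¹ * (ρ b v * v⁻¹)
    conv_rhs => rw [← hquad a b v, map_mul (ρ a), map_inv]
    rw [map_mul, MulAut.mul_apply]
    rw [show ∀ x y z : W, x * y⁻¹ * (z * x⁻¹) = z * y⁻¹ from fun x y z => by
      rw [mul_comm x, mul_assoc, mul_comm z, ← mul_assoc x, mul_inv_cancel, one_mul, mul_comm]]
  have hDker : ∀ v, (∀ b ∈ B, ρ b v = v) → B ≤ (D v).ker := fun v hv b hb => by
    rw [MonoidHom.mem_ker]; show ρ b v * v⁻¹ = 1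
    rw [hv b hb, mul_inv_cancel]
  have hBu : ∀ b ∈ B, ρ b u = u := fun b hb => by
    rcases hu with rfl | rfl
    · exact hB b hb
    · rw [map_pow, hB b hb]
  set d := QuotientGroup.lift B (D u) (hDker u hBu) with hd
  have hFd : ∀ q, F q = d q * u := by
    intro q
    induction q using QuotientGroup.induction_on with
    | H a =>
      rw [hF, hd, QuotientGroup.lift_mk]
      show ρ a u = ρ a u * u⁻¹ * u
      rw [inv_mul_cancel_right]
  rw [Finset.prod_congr rfl fun q _ => hFd q, Finset.prod_mul_distrib, Finset.prod_const,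
    Finset.card_univ, Nat.card_eq_fintype_card]
  rw [show (∏ q, d q) = 1 from ?_, one_mul]
  by_cases hp : p = 2
  · subst hp
    have hsquare : u = w ^ 2 → ∏ q, d q = 1 := by
      intro hw
      have hd2 : ∀ q, d q = QuotientGroup.lift B (D w) (hDker w hB) q *
          QuotientGroup.lift B (D w) (hDker w hB) q := by
        intro q
        induction q using QuotientGroup.induction_on with
        | H a =>
          rw [hd, QuotientGroup.lift_mk, QuotientGroup.lift_mk]
          show ρ a u * u⁻¹ = ρ a w * w⁻¹ * (ρ a w * w⁻¹)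
          rw [hw, map_pow, sq, sq, mul_inv_rev, mul_mul_mul_comm]
      rw [Finset.prod_congr rfl fun q _ => hd2 q, Finset.prod_mul_distrib]
      exact prod_hom_sq _
    by_cases hw : u = w ^ 2
    · exact hsquare hw
    have h2 : Nat.card (A ⧸ B) ≠ 2 := (hcase.resolve_left (fun h => h rfl)).resolve_left hw
    obtain ⟨n, hn⟩ := IsPGroup.iff_card.1 hA'
    rcases n with _ | _ | n
    · haveI : Subsingleton (A ⧸ B) := (Nat.card_eq_one_iff_unique.1 (by simpa using hn)).1
      exact Finset.prod_eq_one fun q _ => by rw [Subsingleton.elim q 1, map_one]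
    · exact absurd (by simpa using hn) h2
    refine prod_hom_eq_one_of_two d hA' ?_ ?_
    · rw [hn, pow_add, pow_add]
      have : 0 < 2 ^ n := pow_pos two_pos n
      omega
    · intro q
      induction q using QuotientGroup.induction_on with
      | H a =>
        rw [hd, QuotientGroup.lift_mk]
        show ρ a u * u⁻¹ * (ρ a u * u⁻¹) = 1
        rw [mul_mul_mul_comm, ← map_mul, ← mul_inv_rev, ← sq, hu2 a, sq, mul_inv_cancel]
  · refine prod_hom_eq_one_of_odd d ?_
    obtain ⟨n, hn⟩ := IsPGroup.iff_card.1 hA'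
    rw [hn]
    exact ((Fact.out : p.Prime).odd_of_ne_two hp).pow

end CfsgLib.WeakClosureJ
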