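import Mathlib
import Cfsg.Agent.Eq.Def_LocalEven
import Cfsg.Agent.BaerSuzuki.Basic
import Cfsg.Agent.ThompsonComplement.SFour

/-!
A transvection on an abelian normal 2-subgroup outside the kernel of an action with trivial 2-core
produces a section isomorphic to the symmetric group of degree four.
-/

set_option autoImplicit false

namespace CfsgLib.WeakClosureJ

open Cfsg

/-- Two transvections one of which fixes the centre of the other generate a 2-group. -/
theorem transvection_pair_pow_four {M : Type*} [CommGroup M] (α β : MulAut M) {e f : M}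
    (he : e * e = 1) (hf : f * f = 1) (hαe : α e = e) (hβf : β f = f)
    (hα : ∀ v, α v = v ∨ α v = v * e) (hβ : ∀ v, β v = v ∨ β v = v * f)
    (h : α f = f ∨ β e = e) (v : M) : α (β (α (β (α (β (α (β v))))))) = v := by
  have he' : ∀ w, w * e * e = w := fun w => by rw [mul_assoc, he, mul_one]
  have hf' : ∀ w, w * f * f = w := fun w => by rw [mul_assoc, hf, mul_one]
  have hef : ∀ w, w * f * e = w * e * f := fun w => mul_right_comm w f e
  have hαf := hα f
  have hβe := hβ e
  rcases h with h | h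
  · rcases hα v with a | a <;> rcases hβ v with b | b <;> rcases hβe with c | c <;>
      simp only [a, b, c, h, map_mul, hαe, hβf, ← mul_assoc, he', hf', hef]
  · rcases hα v with a | a <;> rcases hβ v with b | b <;> rcases hαf with c | c <;>
      simp only [a, b, c, h, map_mul, hαe, hβf, ← mul_assoc, he', hf', hef]

/-- The section from a transvection. -/
theorem involves_perm_four_of_transvection {Y : Type*} [Group Y] [Finite Y] (W : Subgroup Y) [W.Normal]
    (hW : IsMulCommutative W) {a e : Y} (ha : a ∉ Subgroup.centralizer (W : Set Y))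
    (ha2 : a * a ∈ Subgroup.centralizer (W : Set Y)) (he : e ∈ W) (he2 : e * e = 1)
    (hae : a * e * a⁻¹ = e) (htrans : ∀ v ∈ W, a * v * a⁻¹ = v ∨ a * v * a⁻¹ = v * e)
    (hO2 : ∀ T : Subgroup Y, T.Normal → Subgroup.centralizer (W : Set Y) ≤ T →
      (∃ k : ℕ, (Subgroup.centralizer (W : Set Y)).relIndex T = 2 ^ k) →
      T ≤ Subgroup.centralizer (W : Set Y)) :
    Cfsg.Involves (Equiv.Perm (Fin 4)) Y := by
  classical
  haveI : Fact (Nat.Prime 2) := ⟨Nat.prime_two⟩
  set C := Subgroup.centralizer (W : Set Y) with hC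
  have hWc : ∀ u ∈ W, ∀ v ∈ W, u * v = v * u := fun u hu v hv =>
    congrArg Subtype.val (hW.is_comm.comm ⟨u, hu⟩ ⟨v, hv⟩)
  haveI : C.Normal := by rw [hC]; infer_instance
  set f := QuotientGroup.mk' C with hf
  have hfa : orderOf (f a) = 2 := by
    refine orderOf_eq_prime ?_ (fun h => ha ((QuotientGroup.eq_one_iff a).1 h))
    rw [← map_pow, sq]
    exact (QuotientGroup.eq_one_iff _).2 ha2
  have hnot : f a ∉ Cfsg.pCore 2 (Y ⧸ C) := by
    intro h
    refine ha (hO2 ((Cfsg.pCore 2 (Y ⧸ C)).comap f) ?_ ?_ ?_ h)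
    · exact Subgroup.Normal.comap (Subgroup.sSup_normal _ fun N hN => hN.1) f
    · exact le_trans (le_of_eq (QuotientGroup.ker_mk' C).symm) (Subgroup.ker_le_comap f _)
    · obtain ⟨k, hk⟩ := IsPGroup.iff_card.1
        (Sylow.sSup_of_normal _ (fun _ h => h.2) (fun _ h => h.1) : IsPGroup 2 (Cfsg.pCore 2 (Y ⧸ C)))
      refine ⟨k, ?_⟩
      have h1 := Subgroup.relIndex_ker f (K := (Cfsg.pCore 2 (Y ⧸ C)).comap f)
      rw [show f.ker = C from QuotientGroup.ker_mk' C, Subgroup.map_comap_eq_self_of_surjective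
        (QuotientGroup.mk'_surjective C)] at h1
      exact h1.trans hk
  -- a conjugate generating with `a` more than a 2-group
  obtain ⟨g, hg⟩ : ∃ g : Y, ¬ ∃ k : ℕ, (f a * f (g * a * g⁻¹)) ^ 2 ^ k = 1 := by
    by_contra hcon
    push Not at hcon
    refine hnot (CfsgLib.BaerSuzuki.involution_mem_pCore hfa fun q => ?_)
    obtain ⟨g, rfl⟩ := QuotientGroup.mk'_surjective C q
    simpa only [← hf, map_mul, map_inv] using hcon g
  set b := g * a * g⁻¹ with hb
  set e' := g * e * g⁻¹ with he'def
  have he' : e' ∈ W := (inferInstance : W.Normal).conj_mem e he g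
  have he'2 : e' * e' = 1 := by
    rw [he'def, show g * e * g⁻¹ * (g * e * g⁻¹) = g * (e * e) * g⁻¹ by group, he2]; group
  have hbe' : b * e' * b⁻¹ = e' := by
    rw [hb, he'def, show g * a * g⁻¹ * (g * e * g⁻¹) * (g * a * g⁻¹)⁻¹ = g * (a * e * a⁻¹) * g⁻¹ by group,
      hae]
  have hbtrans : ∀ v ∈ W, b * v * b⁻¹ = v ∨ b * v * b⁻¹ = v * e' := by
    intro v hv
    have hv' : g⁻¹ * v * g ∈ W := by simpa using (inferInstance : W.Normal).conj_mem v hv g⁻¹
    have h0 : b * v * b⁻¹ = g * (a * (g⁻¹ * v * g) * a⁻¹) * g⁻¹ := by rw [hb]; group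
    rcases htrans _ hv' with h | h
    · left; rw [h0, h]; group
    · right; rw [h0, h, he'def]; group
  letI : CommGroup W := { (inferInstance : Group W) with
    mul_comm := fun u v => Subtype.ext (hWc u u.2 v v.2) }
  -- both centres are moved
  have hmoved : a * e' * a⁻¹ ≠ e' ∧ b * e * b⁻¹ ≠ e := by
    by_contra hcon
    refine hg ⟨2, ?_⟩
    rw [← map_mul, ← map_pow]
    refine (QuotientGroup.eq_one_iff _).2 ?_
    refine Subgroup.mem_centralizer_iff.2 fun v hv => ?_
    have key := transvection_pair_pow_four (MulAut.conjNormal a : MulAut W) (MulAut.conjNormal b)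
      (e := ⟨e, he⟩) (f := ⟨e', he'⟩) (Subtype.ext he2) (Subtype.ext he'2)
      (Subtype.ext (by rw [MulAut.conjNormal_apply]; exact hae))
      (Subtype.ext (by rw [MulAut.conjNormal_apply]; exact hbe'))
      (fun w => (htrans w w.2).imp (fun h => Subtype.ext (by rw [MulAut.conjNormal_apply]; exact h))
        fun h => Subtype.ext (by rw [MulAut.conjNormal_apply]; exact h))
      (fun w => (hbtrans w w.2).imp (fun h => Subtype.ext (by rw [MulAut.conjNormal_apply]; exact h))
        fun h => Subtype.ext (by rw [MulAut.conjNormal_apply]; exact h))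
      (by
        rcases not_and_or.1 hcon with h | h
        · exact Or.inl (Subtype.ext (by rw [MulAut.conjNormal_apply]; exact not_not.1 h))
        · exact Or.inr (Subtype.ext (by rw [MulAut.conjNormal_apply]; exact not_not.1 h)))
      ⟨v, hv⟩
    have h1 := congrArg Subtype.val key
    simp only [MulAut.conjNormal_apply] at h1
    have h2 : (a * b) ^ 4 * v * ((a * b) ^ 4)⁻¹ = v := by
      conv_rhs => rw [← h1]
      rw [show (a * b) ^ 4 = a * b * (a * b) * (a * b) * (a * b) by simp [pow_succ]]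
      group
    calc v * (a * b) ^ 4 = (a * b) ^ 4 * v * ((a * b) ^ 4)⁻¹ * (a * b) ^ 4 := by rw [h2]
      _ = (a * b) ^ 4 * v := by group
  obtain ⟨hae', hbe⟩ := hmoved
  have ha1 : a * e' * a⁻¹ = e' * e := (htrans e' he').resolve_left hae'
  have hb1 : b * e * b⁻¹ = e * e' := (hbtrans e he).resolve_left hbe
  have hcomm : e * e' = e' * e := hWc e he e' he'
  have hne : e ≠ e' := fun h => hae' (h ▸ hae)
  have hne1 : e ≠ 1 := fun h => hbe (by rw [h]; group)
  have hne1' : e' ≠ 1 := fun h => hae' (by rw [h]; group)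
  have hne2 : e * e' ≠ 1 := fun h => hne (mul_left_cancel (he2.trans h.symm))
  -- the four group
  set F : Subgroup Y := Subgroup.closure {e, e'} with hF
  have heF : e ∈ F := Subgroup.subset_closure (by simp)
  have he'F : e' ∈ F := Subgroup.subset_closure (by simp)
  have hFW : F ≤ W := by
    rw [hF, Subgroup.closure_le]
    rintro x (rfl | rfl) <;> assumption
  have h3 : e * e' * e = e' := by rw [hcomm, mul_assoc, he2, mul_one]
  have h4 : e * e' * e' = e := by rw [mul_assoc, he'2, mul_one]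
  have h5 : e * (e * e') = e' := by rw [← mul_assoc, he2, one_mul]
  have h6 : e' * (e * e') = e := by rw [hcomm, ← mul_assoc, he'2, one_mul]
  have hFset : (F : Set Y) = {1, e, e', e * e'} := by
    refine Set.Subset.antisymm (fun x hx => ?_) ?_
    · rw [SetLike.mem_coe, hF] at hx
      induction hx using Subgroup.closure_induction with
      | mem x hx => rcases hx with rfl | rfl <;> simp
      | one => simp
      | mul x y _ _ hx hy =>
        have h7 : e * e' * (e * e') = 1 := by rw [← mul_assoc, h3, he'2]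
        rcases hx with rfl | rfl | rfl | rfl <;> rcases hy with rfl | rfl | rfl | rfl <;>
          simp [he2, he'2, h3, h4, h5, h6, h7, ← hcomm]
      | inv x _ hx =>
        have hei : e⁻¹ = e := inv_eq_of_mul_eq_one_right he2
        have he'i : e'⁻¹ = e' := inv_eq_of_mul_eq_one_right he'2
        rcases hx with rfl | rfl | rfl | rfl <;> simp [hei, he'i, mul_inv_rev, ← hcomm]
    · rintro x (rfl | rfl | rfl | rfl)
      exacts [one_mem _, heF, he'F, mul_mem heF he'F]
  have hFcard : Nat.card F = 4 := by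
    rw [show Nat.card F = Nat.card (F : Set Y) from rfl, hFset, Nat.card_coe_set_eq,
      Set.ncard_insert_of_notMem (by simp [Ne.symm hne1, Ne.symm hne1', Ne.symm hne2]) (Set.toFinite _),
      Set.ncard_insert_of_notMem (by simp [hne, hne1']) (Set.toFinite _),
      Set.ncard_pair (by simp [hne1])]
  have hN : ∀ c : Y, c * e * c⁻¹ ∈ F → c * e' * c⁻¹ ∈ F → c ∈ Subgroup.normalizer (F : Set Y) := by
    intro c h1 h2
    refine Subgroup.mem_normalizer_iff_map_conj_eq.2 (Subgroup.eq_of_le_of_card_ge ?_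
      (Subgroup.card_map_of_injective (MulAut.conj c).injective).ge)
    rw [Subgroup.map_le_iff_le_comap]
    conv_lhs => rw [hF]
    rw [Subgroup.closure_le]
    rintro x (rfl | rfl) <;> assumption
  have hya : a ∈ Subgroup.normalizer (F : Set Y) :=
    hN a (by rw [hae]; exact heF) (by rw [ha1]; exact mul_mem he'F heF)
  have habe : a * b * e * (a * b)⁻¹ = e' := by
    rw [show a * b * e * (a * b)⁻¹ = a * (b * e * b⁻¹) * a⁻¹ by group, hb1,
      show a * (e * e') * a⁻¹ = a * e * a⁻¹ * (a * e' * a⁻¹) by group, hae, ha1, ← hcomm, h5]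
  have habe' : a * b * e' * (a * b)⁻¹ = e * e' := by
    rw [show a * b * e' * (a * b)⁻¹ = a * (b * e' * b⁻¹) * a⁻¹ by group, hbe', ha1, hcomm]
  have haby : a * b ∈ Subgroup.normalizer (F : Set Y) :=
    hN (a * b) (by rw [habe]; exact he'F) (by rw [habe']; exact mul_mem heF he'F)
  have hcentF : ∀ c : Y, c * e * c⁻¹ = e → c * e' * c⁻¹ = e' → c ∈ Subgroup.centralizer (F : Set Y) := by
    intro c h1 h2
    rw [hF, Subgroup.centralizer_closure, Subgroup.mem_centralizer_iff]
    rintro x (hx | hx)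
    · rw [hx]
      calc e * c = c * e * c⁻¹ * c := by rw [h1]
        _ = c * e := by group
    · rw [Set.mem_singleton_iff] at hx
      rw [hx]
      calc e' * c = c * e' * c⁻¹ * c := by rw [h2]
        _ = c * e' := by group
  have hmem : ∀ c : Y, c ∈ Subgroup.centralizer (F : Set Y) → ∀ x ∈ F, c * x * c⁻¹ = x := by
    intro c hc x hx
    rw [← Subgroup.mem_centralizer_iff.1 hc x hx, mul_inv_cancel_right]
  refine CfsgLib.ThompsonComplement.involves_perm_four hFcard (e := a * b) (b := a) haby hya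
    ?_ ?_ ?_ ?_ (j := 2) ?_
  · intro h
    have := hmem _ h e heF
    rw [habe] at this
    exact hne this.symm
  · refine hcentF _ ?_ ?_
    · rw [show (a * b) ^ 3 * e * ((a * b) ^ 3)⁻¹ =
        (a * b) * ((a * b) * ((a * b) * e * (a * b)⁻¹) * (a * b)⁻¹) * (a * b)⁻¹ by
          rw [pow_succ, pow_succ, pow_one]; group, habe, habe',
        show a * b * (e * e') * (a * b)⁻¹ = (a * b * e * (a * b)⁻¹) * (a * b * e' * (a * b)⁻¹) by group,
        habe, habe', h6]
    · rw [show (a * b) ^ 3 * e' * ((a * b) ^ 3)⁻¹ =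
        (a * b) * ((a * b) * ((a * b) * e' * (a * b)⁻¹) * (a * b)⁻¹) * (a * b)⁻¹ by
          rw [pow_succ, pow_succ, pow_one]; group, habe',
        show a * b * (e * e') * (a * b)⁻¹ = (a * b * e * (a * b)⁻¹) * (a * b * e' * (a * b)⁻¹) by group,
        habe, habe', h6, habe]
  · intro h
    exact hae' (hmem a h e' he'F)
  · rw [sq]
    exact Subgroup.centralizer_le hFW ha2
  · -- `a` inverts `a b` modulo the centraliser
    have hinv1 : (a * b)⁻¹ * e * (a * b) = e * e' := by
      have := congrArg (fun t => (a * b)⁻¹ * t * (a * b)) (show a * b * (e * e') * (a * b)⁻¹ = e by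
        rw [show a * b * (e * e') * (a * b)⁻¹ = (a * b * e * (a * b)⁻¹) * (a * b * e' * (a * b)⁻¹) by group,
          habe, habe', h6])
      simpa [mul_assoc] using this.symm
    have hinv2 : (a * b)⁻¹ * e' * (a * b) = e := by rw [← habe]; group
    have hai : a⁻¹ * e * a = e := by
      calc a⁻¹ * e * a = a⁻¹ * (a * e * a⁻¹) * a := by rw [hae]
        _ = e := by group
    have hai' : a⁻¹ * e' * a = e' * e := by
      have h7 : a * (e' * e) * a⁻¹ = e' := by
        rw [show a * (e' * e) * a⁻¹ = a * e' * a⁻¹ * (a * e * a⁻¹) by group, ha1, hae, mul_assoc, he2,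
          mul_one]
      calc a⁻¹ * e' * a = a⁻¹ * (a * (e' * e) * a⁻¹) * a := by rw [h7]
        _ = e' * e := by group
    refine hcentF _ ?_ ?_
    · rw [show a * (a * b) * a⁻¹ * ((a * b) ^ 2)⁻¹ * e * (a * (a * b) * a⁻¹ * ((a * b) ^ 2)⁻¹)⁻¹ =
        a * ((a * b) * (a⁻¹ * ((a * b)⁻¹ * ((a * b)⁻¹ * e * (a * b)) * (a * b)) * a) * (a * b)⁻¹) * a⁻¹ by
          rw [sq]; group, hinv1,
        show (a * b)⁻¹ * (e * e') * (a * b) = ((a * b)⁻¹ * e * (a * b)) * ((a * b)⁻¹ * e' * (a * b)) by
          group, hinv1, hinv2, h3, hai',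
        show a * b * (e' * e) * (a * b)⁻¹ = (a * b * e' * (a * b)⁻¹) * (a * b * e * (a * b)⁻¹) by group,
        habe', habe, h4, hae]
    · rw [show a * (a * b) * a⁻¹ * ((a * b) ^ 2)⁻¹ * e' * (a * (a * b) * a⁻¹ * ((a * b) ^ 2)⁻¹)⁻¹ =
        a * ((a * b) * (a⁻¹ * ((a * b)⁻¹ * ((a * b)⁻¹ * e' * (a * b)) * (a * b)) * a) * (a * b)⁻¹) * a⁻¹ by
          rw [sq]; group, hinv2, hinv1,
        show a⁻¹ * (e * e') * a = (a⁻¹ * e * a) * (a⁻¹ * e' * a) by group, hai, hai', ← hcomm, h5, habe',
        show a * (e * e') * a⁻¹ = a * e * a⁻¹ * (a * e' * a⁻¹) by group, hae, ha1, ← hcomm, h5]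

end CfsgLib.WeakClosureJ
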