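import Cfsg.Agent.WeakClosureJ.Members
import Cfsg.Agent.WeakClosureJ.OrbitProd
import Cfsg.Agent.WeakClosureJ.Transvection
import Cfsg.Agent.GlaubermanZJ.SylowNormal
import Cfsg.Agent.Offender.SolvableFactor
import Cfsg.Agent.Eq.Def_LocalEven

/-!
Glauberman's theorem in the case of an abelian normal subgroup: an element `z` of an abelian normal
`p`-subgroup central in a Sylow subgroup `R`, with `x = z` or `x = z^p` centralised by `N(J(R))`.
Then `x` is central (`p` odd, or `x = z^p`, or no section of the symmetric group of degree four).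
-/

set_option autoImplicit false

namespace CfsgLib.WeakClosureJ

open Cfsg CfsgLib.GlaubermanZJ

universe u

/-- The hypothesis on the exponent. -/
def ExpCase (p : ℕ) (Y : Type u) [Group Y] (z x : Y) : Prop :=
  (x = z ∧ (p ≠ 2 ∨ ¬ Cfsg.Involves (Equiv.Perm (Fin 4)) Y)) ∨ x = z ^ p

variable {Y : Type u} [Group Y] [Finite Y] {p : ℕ} [Fact p.Prime]

/-- A normal subgroup over `C` with `p`-group quotient lies in `C`, the centraliser of the conjugates of
an element central in a Sylow `p`-subgroup. -/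
theorem le_kernel_of_pGroup_image (R : Sylow p Y) {C T : Subgroup Y} [C.Normal] [T.Normal] (hCT : C ≤ T)
    (hk : ∃ k : ℕ, C.relIndex T = p ^ k) {z : Y} (hRz : ∀ r ∈ (R : Subgroup Y), r * z = z * r)
    (hC : ∀ c : Y, c ∈ C ↔ ∀ g : Y, c * (g * z * g⁻¹) = g * z * g⁻¹ * c) : T ≤ C := by
  intro d hd
  obtain ⟨c₀, hc₀, t, htR, htT, rfl⟩ := exists_mul_of_relIndex_pow R hCT hk hd
  refine mul_mem hc₀ ((hC t).2 fun g => ?_)
  obtain ⟨m, hm, d', hd', rfl⟩ := exists_frattini R T g
  obtain ⟨c, hc, s, hsR, -, rfl⟩ := exists_mul_of_relIndex_pow R hCT hk hd'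
  have hcz : c * z * c⁻¹ = z := by
    have h1 := (hC c).1 hc 1
    simp only [one_mul, inv_one, mul_one] at h1
    rw [h1, mul_inv_cancel_right]
  have hsz : s * z * s⁻¹ = z := by rw [hRz s hsR, mul_inv_cancel_right]
  have he : m * (c * s) * z * (m * (c * s))⁻¹ = m * z * m⁻¹ := by
    rw [show m * (c * s) * z * (m * (c * s))⁻¹ = m * (c * (s * z * s⁻¹) * c⁻¹) * m⁻¹ by group, hsz, hcz]
  rw [he]
  have h2 : m⁻¹ * t * m ∈ (R : Subgroup Y) := ((Subgroup.mem_normalizer_iff''.1 hm t).1 ⟨htR, htT⟩).1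
  calc t * (m * z * m⁻¹) = m * ((m⁻¹ * t * m) * z) * m⁻¹ := by group
    _ = m * (z * (m⁻¹ * t * m)) * m⁻¹ := by rw [hRz _ h2]
    _ = m * z * m⁻¹ * t := by group

/-- Conjugation by a subgroup on a normal subgroup. -/
def conjAct (W : Subgroup Y) [W.Normal] (A : Subgroup Y) : A →* MulAut W :=
  MulAut.conjNormal.comp A.subtype

theorem conjAct_apply (W : Subgroup Y) [W.Normal] (A : Subgroup Y) (a : A) (w : W) :
    ((conjAct W A a w : W) : Y) = a * w * (a : Y)⁻¹ := MulAut.conjNormal_apply (a : Y) w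

/-- A member acts quadratically. -/
theorem quadratic_of_member {W A : Subgroup Y} [W.Normal] {a : ℕ} (hA : IsMember p W a A) {b c v : Y}
    (hb : b ∈ A) (hc : c ∈ A) (hv : v ∈ W) : c * (b * v * b⁻¹ * v⁻¹) * c⁻¹ = b * v * b⁻¹ * v⁻¹ := by
  have h1 : b * v * b⁻¹ * v⁻¹ ∈ A := by
    have h2 := (Subgroup.mem_normalizer_iff.1 (hA.2.2.2 hv) b⁻¹).1 (inv_mem hb)
    have := mul_mem hb h2
    simpa [mul_assoc] using this
  rw [isMulCommutative_apply hA.2.1 hc h1, mul_inv_cancel_right]

/-- The statement, for the induction on the order of the group. -/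
def InnerStatement (p : ℕ) (N : ℕ) : Prop :=
  ∀ (Y : Type u) [Group Y] [Finite Y], Nat.card Y = N → ∀ (V : Subgroup Y), V.Normal →
    IsMulCommutative V → IsPGroup p V → ∀ (R : Sylow p Y) (z x : Y), z ∈ V →
      (∀ r ∈ (R : Subgroup Y), r * z = z * r) → ExpCase p Y z x →
      (∀ n ∈ Subgroup.normalizer (abJ (R : Subgroup Y) : Set Y), n * x = x * n) →
      ∀ y : Y, y * x = x * y

/-- The induction hypothesis applied to a proper subgroup of `Y`. -/
theorem apply_subgroup {N : ℕ} (hY : Nat.card Y = N) (ih : ∀ M < N, InnerStatement.{u} p M)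
    (V : Subgroup Y) [V.Normal] (hVc : IsMulCommutative V) (hVp : IsPGroup p V) (Y1 : Subgroup Y)
    (hY1 : Y1 ≠ ⊤) (R1 : Sylow p Y1) {z x : Y} (hz : z ∈ V) (hzY : z ∈ Y1) (hx : x ∈ Y1)
    (hRz : ∀ r ∈ (R1 : Subgroup Y1).map Y1.subtype, r * z = z * r) (hcase : ExpCase p Y z x)
    (hN : ∀ n ∈ Y1, n ∈ Subgroup.normalizer (abJ ((R1 : Subgroup Y1).map Y1.subtype) : Set Y) →
      n * x = x * n) :
    ∀ n ∈ Y1, n * x = x * n := by
  have hlt : Nat.card Y1 < N := by
    rw [← hY]
    exact lt_of_le_of_ne (Subgroup.card_le_card_group Y1) fun h => hY1 (Subgroup.eq_top_of_card_eq Y1 h)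
  have hVc1 : IsMulCommutative (V.subgroupOf Y1) :=
    ⟨⟨fun a b => Subtype.ext (Subtype.ext (isMulCommutative_apply hVc a.2 b.2))⟩⟩
  have key := ih _ hlt Y1 rfl (V.subgroupOf Y1) inferInstance hVc1
    (hVp.comap_of_injective Y1.subtype Y1.subtype_injective) R1 ⟨z, hzY⟩ ⟨x, hx⟩ hz
    (fun r hr => Subtype.ext (hRz r ⟨r, hr, rfl⟩))
    (by
      rcases hcase with ⟨h, hS⟩ | h
      · exact Or.inl ⟨Subtype.ext h,
          hS.imp id fun h4 hi => h4 (CfsgLib.Offender.involves_of_subgroup Y1 hi)⟩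
      · exact Or.inr (Subtype.ext (by simpa using h)))
    (fun n hn => Subtype.ext (hN n n.2 (mem_normalizer_of_cj_le (by
      rw [abJ_map _ Y1.subtype_injective]
      rintro _ ⟨_, ⟨t, ht, rfl⟩, rfl⟩
      exact ⟨n * t * n⁻¹, (Subgroup.mem_normalizer_iff.1 hn t).1 ht, rfl⟩))))
  exact fun n hn => congrArg Subtype.val (key ⟨n, hn⟩)

/-- The bad orbit of length two gives a section of degree four. -/
theorem involves_of_bad {R : Sylow 2 Y} {W : Subgroup Y} [W.Normal] (hWc : IsMulCommutative W)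
    (hWp : IsPGroup 2 W) {z : Y}
    (hRz : ∀ r ∈ (R : Subgroup Y), r * z = z * r)
    (hC : ∀ c : Y, c ∈ Subgroup.centralizer (W : Set Y) ↔
      ∀ g : Y, c * (g * z * g⁻¹) = g * z * g⁻¹ * c)
    (hglob : ∀ B : Subgroup Y, IsPGroup 2 B → IsMulCommutative B → Nat.card B ≤ abOrder (R : Subgroup Y))
    (hsq : ∀ y : Y, y * (z * z) = z * z * y)
    (huniq : ∀ (g g' : Y) (A : Subgroup Y), IsMember 2 W (abOrder (R : Subgroup Y)) A →
      ¬ A ≤ Subgroup.centralizer (W : Set Y) → A ≤ cj g (R : Subgroup Y) → A ≤ cj g' (R : Subgroup Y) →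
      g * z * g⁻¹ = g' * z * g'⁻¹)
    {A B : Subgroup Y} (hA : IsMember 2 W (abOrder (R : Subgroup Y)) A) (hBA : B ≤ A)
    (hidx : 2 * Nat.card B = Nat.card A) (k : Y) (hzW : k * z * k⁻¹ ∈ W) (hBk : B ≤ cj k (R : Subgroup Y))
    {a : Y} (ha : a ∈ A) (hmove : a * (k * z * k⁻¹) * a⁻¹ ≠ k * z * k⁻¹) :
    Cfsg.Involves (Equiv.Perm (Fin 4)) Y := by
  classical
  set v := k * z * k⁻¹ with hv
  set C := Subgroup.centralizer (W : Set Y) with hCdef
  have hWcomm : ∀ u ∈ W, ∀ w ∈ W, u * w = w * u := fun u hu w hw => isMulCommutative_apply hWc hu hw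
  have hAcomm : ∀ u ∈ A, ∀ w ∈ A, u * w = w * u := fun u hu w hw => isMulCommutative_apply hA.2.1 hu hw
  have hBv : ∀ b ∈ B, b * v = v * b := fun b hb => by
    have h1 := hRz _ (mem_cj.1 (hBk hb))
    calc b * v = k * ((k⁻¹ * b * k) * z) * k⁻¹ := by rw [hv]; group
      _ = k * (z * (k⁻¹ * b * k)) * k⁻¹ := by rw [h1]
      _ = v * b := by rw [hv]; group
  set D := W ⊓ Subgroup.centralizer (B : Set Y) with hD
  have hvD : v ∈ D := ⟨hzW, Subgroup.mem_centralizer_iff.2 hBv⟩
  set A' := B ⊔ D with hA'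
  have hA'c : IsMulCommutative A' := by
    rw [hA', Subgroup.sup_eq_closure]
    refine Subgroup.isMulCommutative_closure ?_
    rintro x (hx | hx) y (hy | hy)
    · exact hAcomm x (hBA hx) y (hBA hy)
    · exact Subgroup.mem_centralizer_iff.1 hy.2 x hx
    · exact (Subgroup.mem_centralizer_iff.1 hx.2 y hy).symm
    · exact hWcomm x hx.1 y hy.1
  have hA'p : IsPGroup 2 A' := by
    refine (hA.1.to_le hBA).to_sup_of_normal_left' (hWp.to_le inf_le_left) ?_
    exact inf_le_right.trans (Subgroup.centralizer_le_normalizer _)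
  -- the centralised part of `W` lies in `A`
  have hWA : ∀ w ∈ W, (∀ c ∈ A, c * w = w * c) → w ∈ A := by
    intro w hw hc
    set T := Subgroup.closure ((A : Set Y) ∪ {w}) with hT
    have hTc : IsMulCommutative T := by
      refine Subgroup.isMulCommutative_closure ?_
      rintro x (hx | rfl) y (hy | rfl)
      · exact hAcomm x hx y hy
      · exact hc x hx
      · exact (hc y hy).symm
      · rfl
    have hTp : IsPGroup 2 T := by
      have hle : T ≤ A ⊔ W := by
        rw [hT, Subgroup.closure_le]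
        rintro x (hx | rfl)
        · exact Subgroup.mem_sup_left hx
        · exact Subgroup.mem_sup_right hw
      exact (hA.1.to_sup_of_normal_left' hWp hA.2.2.2).to_le hle
    have hAT : A ≤ T := fun x hx => Subgroup.subset_closure (Or.inl hx)
    rw [Subgroup.eq_of_le_of_card_ge hAT ((hglob T hTp hTc).trans hA.2.2.1.ge)]
    exact Subgroup.subset_closure (Or.inr rfl)
  have hlt : (A ⊓ W : Subgroup Y) < D := by
    refine lt_of_le_of_ne (fun x hx => ⟨hx.2, Subgroup.mem_centralizer_iff.2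
      fun b hb => hAcomm b (hBA hb) x hx.1⟩) fun h => hmove ?_
    have : v ∈ A ⊓ W := h ▸ hvD
    rw [hAcomm a ha v this.1, mul_inv_cancel_right]
  have hBD : Nat.card ↥(B ⊓ D) ≤ Nat.card ↥(A ⊓ W) :=
    Subgroup.card_le_of_le (le_inf (inf_le_left.trans hBA) (inf_le_right.trans inf_le_left))
  have hDlb : 2 * Nat.card ↥(A ⊓ W) ≤ Nat.card D := by
    obtain ⟨j, hj⟩ := Subgroup.card_dvd_of_le hlt.le
    rcases j with _ | _ | j
    · rw [mul_zero] at hj; exact absurd hj Nat.card_pos.ne'
    · rw [zero_add, mul_one] at hj; exact absurd (Subgroup.eq_of_le_of_card_ge hlt.le hj.le) hlt.ne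
    · rw [hj, mul_comm]; exact Nat.mul_le_mul le_rfl (by omega)
  have hmain := CfsgLib.LocalP.card_mul_le_card_sup_mul_card_inf B D
  have hA'card : Nat.card A' = Nat.card A := by
    refine le_antisymm ((hglob A' hA'p hA'c).trans hA.2.2.1.ge) ?_
    have h1 : Nat.card B * (2 * Nat.card ↥(A ⊓ W)) ≤ Nat.card A' * Nat.card ↥(A ⊓ W) :=
      ((Nat.mul_le_mul le_rfl hDlb).trans hmain).trans (Nat.mul_le_mul le_rfl hBD)
    rw [← mul_assoc, mul_comm (Nat.card B) 2, hidx] at h1
    exact Nat.le_of_mul_le_mul_right h1 Nat.card_pos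
  have hDcard : Nat.card D ≤ 2 * Nat.card ↥(A ⊓ W) := by
    have h1 : Nat.card B * Nat.card D ≤ Nat.card A' * Nat.card ↥(A ⊓ W) :=
      hmain.trans (Nat.mul_le_mul le_rfl hBD)
    rw [hA'card, ← hidx, mul_comm 2, mul_assoc] at h1
    exact Nat.le_of_mul_le_mul_left h1 Nat.card_pos
  have hA'm : IsMember 2 W (abOrder (R : Subgroup Y)) A' := by
    refine ⟨hA'p, hA'c, hA'card.trans hA.2.2.1, fun w hw => mem_normalizer_of_cj_le ?_⟩
    rw [cj, hA', Subgroup.map_sup]
    refine sup_le ?_ ?_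
    · rintro _ ⟨b, hb, rfl⟩
      have h1 : w * b * w⁻¹ * b⁻¹ ∈ A ⊓ W := by
        refine Subgroup.mem_inf.2
          ⟨mul_mem ((Subgroup.mem_normalizer_iff.1 (hA.2.2.2 hw) b).1 (hBA hb)) (inv_mem (hBA hb)), ?_⟩
        rw [show w * b * w⁻¹ * b⁻¹ = w * (b * w⁻¹ * b⁻¹) by group]
        exact mul_mem hw ((inferInstance : W.Normal).conj_mem _ (inv_mem hw) b)
      have h2 := mul_mem (Subgroup.mem_sup_right (S := B) (hlt.le h1)) (Subgroup.mem_sup_left (T := D) hb)
      simpa using h2
    · rintro _ ⟨d, hd, rfl⟩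
      show w * d * w⁻¹ ∈ B ⊔ D
      rw [hWcomm w hw d hd.1, mul_inv_cancel_right]
      exact Subgroup.mem_sup_right hd
  -- two conjugates fixed by `A'`
  have hA'v : A' ≤ Subgroup.centralizer ({v} : Set Y) := sup_le
    (fun b hb => Subgroup.mem_centralizer_singleton_iff.2 (hBv b hb))
    (fun d hd => Subgroup.mem_centralizer_singleton_iff.2 (hWcomm d hd.1 v hzW))
  obtain ⟨g, hg, hgv⟩ : ∃ g : Y, A' ≤ cj g (R : Subgroup Y) ∧ g * z * g⁻¹ = v := by
    set Cv := Subgroup.centralizer ({v} : Set Y) with hCv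
    have hPle : ((k • R : Sylow 2 Y) : Subgroup Y) ≤ Cv := by
      intro t ht
      have h1 := hRz _ (mem_cj.1 (show t ∈ cj k (R : Subgroup Y) from ht))
      refine Subgroup.mem_centralizer_singleton_iff.2 ?_
      calc t * v = k * ((k⁻¹ * t * k) * z) * k⁻¹ := by rw [hv]; group
        _ = k * (z * (k⁻¹ * t * k)) * k⁻¹ := by rw [h1]
        _ = v * t := by rw [hv]; group
    obtain ⟨P, hP⟩ := (hA'p.comap_of_injective Cv.subtype Cv.subtype_injective).exists_le_sylow
    obtain ⟨c, hc⟩ := MulAction.exists_smul_eq Cv ((k • R : Sylow 2 Y).subtype hPle) P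
    refine ⟨c * k, fun t ht => ?_, ?_⟩
    · have h1 : (⟨t, hA'v ht⟩ : Cv) ∈ (P : Subgroup Cv) := hP ht
      rw [← hc] at h1
      obtain ⟨s, hs, hst⟩ := h1
      have hs' : (s : Y) ∈ cj k (R : Subgroup Y) := hs
      rw [cj_mul]
      exact ⟨s, hs', congrArg Subtype.val hst⟩
    · have h1 := Subgroup.mem_centralizer_singleton_iff.1 c.2
      calc (c : Y) * k * z * ((c : Y) * k)⁻¹ = c * v * (c : Y)⁻¹ := by rw [hv]; group
        _ = v := by rw [h1, mul_inv_cancel_right]
  have haA' : a ∈ Subgroup.normalizer (A' : Set Y) := by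
    refine mem_normalizer_of_cj_le ?_
    rw [cj, hA', Subgroup.map_sup]
    refine sup_le ?_ ?_
    · rintro _ ⟨b, hb, rfl⟩
      show a * b * a⁻¹ ∈ B ⊔ D
      rw [hAcomm a ha b (hBA hb), mul_inv_cancel_right]
      exact Subgroup.mem_sup_left hb
    · rintro _ ⟨d, hd, rfl⟩
      refine Subgroup.mem_sup_right ⟨(inferInstance : W.Normal).conj_mem d hd.1 a,
        Subgroup.mem_centralizer_iff.2 fun b hb => ?_⟩
      show b * (a * d * a⁻¹) = a * d * a⁻¹ * b
      have h1 := hAcomm b (hBA hb) a ha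
      have h2 : b * d = d * b := Subgroup.mem_centralizer_iff.1 hd.2 b hb
      calc b * (a * d * a⁻¹) = (b * a) * d * a⁻¹ := by group
        _ = a * (b * d) * a⁻¹ := by rw [h1]; group
        _ = a * (d * b) * a⁻¹ := by rw [h2]
        _ = a * d * a⁻¹ * ((a * b) * a⁻¹) := by group
        _ = a * d * a⁻¹ * b := by rw [← h1, mul_inv_cancel_right]
  have hA'C : A' ≤ C := by
    by_contra hnot
    refine hmove ?_
    have h1 : A' ≤ cj (a * g) (R : Subgroup Y) := by
      rw [cj_mul, ← cj_eq_of_mem_normalizer haA']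
      exact cj_mono a hg
    have h2 := huniq g (a * g) A' hA'm hnot hg h1
    rw [hgv, show a * g * z * (a * g)⁻¹ = a * (g * z * g⁻¹) * a⁻¹ by group, hgv] at h2
    exact h2.symm
  -- a transvection
  have hDW : D = W := le_antisymm inf_le_left (le_inf le_rfl fun w hw =>
    Subgroup.mem_centralizer_iff.2 fun b hb =>
      (Subgroup.mem_centralizer_iff.1 (hA'C (Subgroup.mem_sup_left hb)) w hw).symm)
  set e := a * v * a⁻¹ * v⁻¹ with he
  have heW : e ∈ W := mul_mem ((inferInstance : W.Normal).conj_mem v hzW a) (inv_mem hzW)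
  have hae : a * e * a⁻¹ = e := quadratic_of_member hA ha ha hzW
  have he2 : e * e = 1 := by
    have h1 : a * (v * v) * a⁻¹ = v * v := by
      have h2 : v * v = z * z := by
        rw [hv, show k * z * k⁻¹ * (k * z * k⁻¹) = k * (z * z) * k⁻¹ by group, hsq k, mul_inv_cancel_right]
      rw [h2, hsq a, mul_inv_cancel_right]
    have h3 : v⁻¹ * (a * v * a⁻¹) = a * v * a⁻¹ * v⁻¹ :=
      hWcomm _ (inv_mem hzW) _ ((inferInstance : W.Normal).conj_mem v hzW a)
    calc e * e = a * v * a⁻¹ * (v⁻¹ * (a * v * a⁻¹)) * v⁻¹ := by rw [he]; group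
      _ = a * (v * v) * a⁻¹ * (v * v)⁻¹ := by rw [h3]; group
      _ = 1 := by rw [h1, mul_inv_cancel]
  have htrans : ∀ w ∈ W, a * w * a⁻¹ = w ∨ a * w * a⁻¹ = w * e := by
    intro w hw
    set S0 : Set Y := ((A ⊓ W : Subgroup Y) : Set Y) with hS0
    have hvS : v ∉ S0 := fun h => hmove (by rw [hAcomm a ha v h.1, mul_inv_cancel_right])
    have hdisj : Disjoint S0 ((fun t => v * t) '' S0) := by
      rw [Set.disjoint_left]
      rintro t ht ⟨t', ht', rfl⟩
      exact hvS (show v ∈ S0 by simpa [hS0] using (A ⊓ W : Subgroup Y).mul_mem ht ((A ⊓ W : Subgroup Y).inv_mem ht'))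
    have hcover : S0 ∪ (fun t => v * t) '' S0 = (W : Set Y) := by
      refine Set.eq_of_subset_of_ncard_le ?_ ?_ (Set.toFinite _)
      · rintro t (ht | ⟨t', ht', rfl⟩)
        exacts [ht.2, mul_mem hzW ht'.2]
      · rw [Set.ncard_union_eq hdisj (Set.toFinite _) (Set.toFinite _),
          Set.ncard_image_of_injective _ (mul_right_injective v), ← two_mul,
          ← Nat.card_coe_set_eq, ← Nat.card_coe_set_eq]
        exact (hDW ▸ hDcard : Nat.card W ≤ 2 * Nat.card ↥(A ⊓ W))
    rcases (hcover.ge hw : w ∈ S0 ∪ _) with ht | ⟨t, ht, rfl⟩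
    · left; rw [hAcomm a ha w ht.1, mul_inv_cancel_right]
    · right
      show a * (v * t) * a⁻¹ = v * t * e
      calc a * (v * t) * a⁻¹ = (a * v * a⁻¹) * (a * t * a⁻¹) := by group
        _ = e * v * t := by rw [hAcomm a ha t ht.1, mul_inv_cancel_right, he]; group
        _ = e * (v * t) := mul_assoc _ _ _
        _ = v * t * e := hWcomm _ heW _ (mul_mem hzW ht.2)
  have haC : a ∉ C := fun h => hmove (by
    rw [← Subgroup.mem_centralizer_iff.1 h v hzW, mul_inv_cancel_right])
  have ha2 : a * a ∈ C := by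
    have hB2 : a * a ∈ B := by
      have hi : (B.subgroupOf A).index = 2 := by
        have h1 := (B.subgroupOf A).card_mul_index
        rw [Nat.card_congr (Subgroup.subgroupOfEquivOfLe hBA).toEquiv, ← hidx, mul_comm 2] at h1
        exact Nat.eq_of_mul_eq_mul_left Nat.card_pos h1
      exact Subgroup.sq_mem_of_index_two hi (⟨a, ha⟩ : A) |> fun h => by
        simpa [sq, Subgroup.mem_subgroupOf] using h
    exact hA'C (Subgroup.mem_sup_left hB2)
  haveI : C.Normal := by rw [hCdef]; infer_instance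
  exact involves_perm_four_of_transvection W hWc haC ha2 heW he2 hae htrans fun T hT hCT hk => by
    haveI := hT
    exact le_kernel_of_pGroup_image R hCT hk hRz hC

theorem inner_aux (N : ℕ) : InnerStatement.{u} p N := by
  classical
  induction N using Nat.strong_induction_on with
  | _ N ih =>
  intro Y _ _ hN V hVn hVc hVp R
  haveI := hVn
  suffices h : ∀ m (z x : Y), orderOf x = m → z ∈ V → (∀ r ∈ (R : Subgroup Y), r * z = z * r) →
      ExpCase p Y z x → (∀ n ∈ Subgroup.normalizer (abJ (R : Subgroup Y) : Set Y), n * x = x * n) →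
      ∀ y : Y, y * x = x * y from fun z x hz h1 h2 h3 => h _ z x rfl hz h1 h2 h3
  intro m
  induction m using Nat.strong_induction_on with
  | _ m ihm =>
  intro z x hm hzV hRz hcase hN_x
  have hzp_case : ∀ y : Y, y * x ^ p = x ^ p * y := by
    rcases eq_or_ne x 1 with rfl | hx1
    · simp
    have hxV : x ∈ V := by
      rcases hcase with ⟨rfl, -⟩ | rfl
      exacts [hzV, pow_mem hzV p]
    obtain ⟨e, he⟩ := IsPGroup.iff_orderOf.1 hVp ⟨x, hxV⟩
    rw [Subgroup.orderOf_mk] at he
    have he0 : e ≠ 0 := by rintro rfl; exact hx1 (orderOf_eq_one_iff.1 (by simpa using he))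
    have hlt : orderOf (x ^ p) < m := by
      rw [← hm, orderOf_pow' x (Fact.out : p.Prime).ne_zero]
      have hg : Nat.gcd (orderOf x) p = p := Nat.gcd_eq_right (he ▸ dvd_pow_self p he0)
      rw [hg]
      exact Nat.div_lt_self (orderOf_pos x) (Fact.out : p.Prime).one_lt
    rcases hcase with ⟨rfl, -⟩ | rfl
    · exact ihm _ hlt x (x ^ p) rfl hzV hRz (Or.inr rfl) fun n hn => (Commute.pow_right (hN_x n hn) p).eq
    · exact ihm _ hlt (z ^ p) ((z ^ p) ^ p) rfl (pow_mem hzV p)
        (fun r hr => (Commute.pow_right (hRz r hr) p).eq) (Or.inr rfl)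
        fun n hn => (Commute.pow_right (hN_x n hn) p).eq
  -- the normal closure
  set W := Subgroup.normalClosure ({z} : Set Y) with hW
  have hWV : W ≤ V := Subgroup.normalClosure_le_normal (by simpa using hzV)
  have hWc : IsMulCommutative W :=
    ⟨⟨fun a b => Subtype.ext (isMulCommutative_apply hVc (hWV a.2) (hWV b.2))⟩⟩
  have hWp : IsPGroup p W := hVp.to_le hWV
  have hzW : ∀ g : Y, g * z * g⁻¹ ∈ W := fun g =>
    Subgroup.normalClosure_normal.conj_mem z (Subgroup.subset_normalClosure (Set.mem_singleton z)) g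
  have hzW1 : z ∈ W := by simpa using hzW 1
  have hxW : ∀ g : Y, g * x * g⁻¹ ∈ W := by
    intro g
    rcases hcase with ⟨h, -⟩ | h
    · rw [h]; exact hzW g
    · rw [h, ← conj_pow]; exact pow_mem (hzW g) p
  have hxW1 : x ∈ W := by simpa using hxW 1
  set C := Subgroup.centralizer (W : Set Y) with hC
  have hCiff : ∀ c : Y, c ∈ C ↔ ∀ g : Y, c * (g * z * g⁻¹) = g * z * g⁻¹ * c := by
    intro c
    constructor
    · intro hc g
      exact (Subgroup.mem_centralizer_iff.1 hc _ (hzW g)).symm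
    · intro h
      refine Subgroup.mem_centralizer_iff.2 fun w hw => ?_
      have : W ≤ Subgroup.centralizer ({c} : Set Y) := by
        rw [hW, Subgroup.normalClosure, Subgroup.closure_le]
        intro w hw
        obtain ⟨z', hz', hzw⟩ := Group.mem_conjugatesOfSet_iff.1 hw
        obtain rfl : z' = z := hz'
        obtain ⟨g, rfl⟩ := isConj_iff.1 hzw
        exact Subgroup.mem_centralizer_singleton_iff.2 (h g).symm
      exact Subgroup.mem_centralizer_singleton_iff.1 (this hw)
  set M := abOrder (R : Subgroup Y) with hM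
  set J0 := memJ p W M with hJ0
  have hglob : ∀ B : Subgroup Y, IsPGroup p B → IsMulCommutative B → Nat.card B ≤ M := by
    intro B hB hBc
    obtain ⟨g, hg⟩ := exists_le_cj R hB
    have h1 : cj g⁻¹ B ≤ (R : Subgroup Y) := (cj_mono _ hg).trans (cj_inv_cj g _).le
    exact (card_cj g⁻¹ B).symm.le.trans (card_le_abOrder h1 (isMulCommutative_map _ hBc))
  -- if the Thompson subgroup centralises `W`
  have stepA : (∀ A, IsMember p W M A → A ≤ (R : Subgroup Y) → A ≤ C) → ∀ y, y * x = x * y := by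
    intro hmem
    have hall : ∀ A ∈ maxAb (R : Subgroup Y), A ≤ C := by
      by_contra hcon
      push Not at hcon
      haveI : Fintype (Subgroup Y) := Fintype.ofFinite _
      obtain ⟨A, hA, hmax⟩ := Finset.exists_max_image
        (Finset.univ.filter fun A : Subgroup Y => A ∈ maxAb (R : Subgroup Y) ∧ ¬ A ≤ C)
        (fun A => Nat.card ↥(A ⊓ W)) (let ⟨A, h⟩ := hcon; ⟨A, by simp [h.1, h.2]⟩)
      simp only [Finset.mem_filter, Finset.mem_univ, true_and] at hA hmax
      have hWR : W ≤ (R : Subgroup Y) := by simpa [cj_one] using normal_pGroup_le_cj R hWp 1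
      have hnot : ¬ W ≤ Subgroup.normalizer (A : Set Y) := fun h => hA.2 (hmem A
        ⟨R.2.to_le hA.1.1, hA.1.2.1, card_eq_abOrder hA.1, h⟩ hA.1.1)
      obtain ⟨A', hA', hlt, hA'N⟩ := exists_replacement R.2 hWR
        (by rw [Subgroup.normalizer_eq_top]; exact le_top) hWc hA.1 hnot
      have hA'C : A' ≤ C := by
        by_contra h
        have hcardlt : Nat.card ↥(A ⊓ W) < Nat.card ↥(A' ⊓ W) :=
          lt_of_le_of_ne (Subgroup.card_le_of_le hlt.le)
            fun e => hlt.ne (Subgroup.eq_of_le_of_card_ge hlt.le e.ge)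
        exact absurd (hmax A' ⟨hA', h⟩) (by omega)
      refine hnot (le_trans ?_ hA'N)
      intro w hw
      exact mem_of_centralizes_abelian hA' (hWR hw)
        fun a ha => (Subgroup.mem_centralizer_iff.1 (hA'C ha) w hw).symm
    have hJC : abJ (R : Subgroup Y) ≤ C := by rw [abJ_eq]; exact sSup_le hall
    have hJeq : abJ ((R : Subgroup Y) ⊓ C) = abJ (R : Subgroup Y) := by
      have ha : abOrder ((R : Subgroup Y) ⊓ C) = abOrder (R : Subgroup Y) := by
        refine le_antisymm (abOrder_mono inf_le_left) ?_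
        have h := abOrder_mono (le_inf (abJ_le (R : Subgroup Y)) hJC)
        rwa [abOrder_abJ] at h
      refine le_antisymm (abJ_mono inf_le_left ha) ?_
      have h := abJ_mono (le_inf (abJ_le (R : Subgroup Y)) hJC) ((abOrder_abJ _).trans ha.symm)
      rwa [abJ_abJ] at h
    intro y
    haveI : C.Normal := by rw [hC]; infer_instance
    obtain ⟨n, hn, c, hc, rfl⟩ := exists_frattini R C y
    have h1 : n ∈ Subgroup.normalizer (abJ (R : Subgroup Y) : Set Y) :=
      hJeq ▸ normalizer_le_normalizer_abJ _ hn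
    have h2 : x * c = c * x := Subgroup.mem_centralizer_iff.1 hc x hxW1
    calc n * c * x = n * (x * c) := by rw [h2, mul_assoc]
      _ = (n * x) * c := (mul_assoc _ _ _).symm
      _ = x * (n * c) := by rw [hN_x n h1, mul_assoc]
  by_cases hfin : ∀ y, y * x = x * y
  · exact hfin
  exfalso
  -- a normal `memJ` is centralised
  have hnormal : ∀ T : Subgroup Y, T.Normal → IsPGroup p T → T ≤ C := by
    intro T hT hTp t ht
    haveI := hT
    refine (hCiff t).2 fun g => ?_
    have h1 := hRz _ (mem_cj.1 (normal_pGroup_le_cj R hTp g ht))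
    calc t * (g * z * g⁻¹) = g * ((g⁻¹ * t * g) * z) * g⁻¹ := by group
      _ = g * (z * (g⁻¹ * t * g)) * g⁻¹ := by rw [h1]
      _ = g * z * g⁻¹ * t := by group
  have hJ0p : ∀ {T : Subgroup Y}, IsPGroup p T → IsPGroup p (J0 T) := fun hT => hT.to_le (memJ_le _)
  have H0 : ∀ n ∈ Subgroup.normalizer (J0 (R : Subgroup Y) : Set Y), n * x = x * n := by
    set Y1 := Subgroup.normalizer (J0 (R : Subgroup Y) : Set Y) with hY1
    by_cases htop : Y1 = ⊤
    · exact absurd (stepA fun A hA hAR => (le_memJ hA hAR).trans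
        (hnormal _ (Subgroup.normalizer_eq_top_iff.1 htop) (hJ0p R.2))) hfin
    have hRY : (R : Subgroup Y) ≤ Y1 :=
      Subgroup.le_normalizer.trans (normalizer_le_normalizer_memJ _)
    have hWR : W ≤ (R : Subgroup Y) := by simpa [cj_one] using normal_pGroup_le_cj R hWp 1
    refine apply_subgroup hN ih V hVc hVp Y1 htop (R.subtype hRY) hzV (hRY (hWR hzW1))
      (hRY (hWR hxW1)) ?_ hcase ?_
    · rintro r ⟨r', hr', rfl⟩
      exact hRz _ hr'
    · intro n _ hn
      refine hN_x n ?_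
      rwa [Sylow.coe_subtype, Subgroup.map_subgroupOf_eq_of_le hRY] at hn
  have H0g : ∀ g n : Y, n ∈ Subgroup.normalizer (J0 (cj g (R : Subgroup Y)) : Set Y) →
      n * (g * x * g⁻¹) = g * x * g⁻¹ * n := by
    intro g n hn
    have h1 : g⁻¹ * n * g ∈ Subgroup.normalizer (J0 (R : Subgroup Y) : Set Y) := by
      refine mem_normalizer_of_cj_le (le_of_eq ?_)
      have h2 := cj_eq_of_mem_normalizer hn
      rw [hJ0, memJ_cj, ← hJ0] at h2
      rw [cj_mul, cj_mul, h2, cj_inv_cj]
    calc n * (g * x * g⁻¹) = g * ((g⁻¹ * n * g) * x) * g⁻¹ := by group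
      _ = g * (x * (g⁻¹ * n * g)) * g⁻¹ := by rw [H0 _ h1]
      _ = g * x * g⁻¹ * n := by group
  -- two Sylow subgroups sharing a member outside `C`
  have huniq : ∀ (k : ℕ) (g g' : Y) (A : Subgroup Y), IsMember p W M A → ¬ A ≤ C →
      A ≤ cj g (R : Subgroup Y) → A ≤ cj g' (R : Subgroup Y) →
      Nat.card Y - Nat.card (J0 (cj g (R : Subgroup Y) ⊓ cj g' (R : Subgroup Y))) = k →
      g * x * g⁻¹ = g' * x * g'⁻¹ := by
    intro k
    induction k using Nat.strong_induction_on with
    | _ k ihk =>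
    intro g g' A hA hAC hAg hAg' hk
    set D := cj g (R : Subgroup Y) ⊓ cj g' (R : Subgroup Y) with hD
    set J1 := J0 D with hJ1
    have hAJ : A ≤ J1 := le_memJ hA (le_inf hAg hAg')
    -- the case of equal subgroups
    have heqcase : J0 (cj g (R : Subgroup Y)) = J1 → g * x * g⁻¹ = g' * x * g'⁻¹ := by
      intro he
      have h2 : J0 (cj g' (R : Subgroup Y)) = J0 (cj g (R : Subgroup Y)) := by
        refine (Subgroup.eq_of_le_of_card_ge ?_ ?_).symm
        · rw [he]; exact memJ_mono inf_le_right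
        · rw [hJ0, memJ_cj, memJ_cj, card_cj, card_cj]
      have hh : g' * g⁻¹ ∈ Subgroup.normalizer (J0 (cj g (R : Subgroup Y)) : Set Y) := by
        refine mem_normalizer_of_cj_le (le_of_eq ?_)
        rw [hJ0, ← memJ_cj, ← cj_mul, inv_mul_cancel_right]
        exact h2
      have h3 := H0g g _ hh
      calc g * x * g⁻¹ = (g * x * g⁻¹) * (g' * g⁻¹) * (g' * g⁻¹)⁻¹ := by group
        _ = (g' * g⁻¹) * (g * x * g⁻¹) * (g' * g⁻¹)⁻¹ := by rw [h3]
        _ = g' * x * g'⁻¹ := by group
    by_cases he : J0 (cj g (R : Subgroup Y)) = J1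
    · exact heqcase he
    set Y1 := Subgroup.normalizer (J1 : Set Y) with hY1
    -- the intersections with `N(J1)` have larger `J0`
    have hgt : ∀ f : Y, D ≤ cj f (R : Subgroup Y) → J0 (cj f (R : Subgroup Y)) ≠ J1 →
        J1 < J0 (cj f (R : Subgroup Y) ⊓ Y1) := by
      intro f hDf hne
      set Q := cj f (R : Subgroup Y) ⊓ Y1 with hQ
      have hDQ : D ≤ Q :=
        le_inf hDf (Subgroup.le_normalizer.trans (normalizer_le_normalizer_memJ (p := p) (W := W) (a := M) D))
      refine lt_of_le_of_ne (memJ_mono hDQ) fun heq => hne ?_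
      have hQeq : Q = cj f (R : Subgroup Y) := by
        by_contra hQne
        obtain ⟨y, hy, hyN, hyQ⟩ := exists_normalizer_gt (R.2.map _) inf_le_left hQne
        refine hyQ ⟨hy, ?_⟩
        have h1 : y ∈ Subgroup.normalizer (J0 Q : Set Y) := normalizer_le_normalizer_memJ _ hyN
        rwa [← heq] at h1
      rw [← hQeq]
      exact heq.symm
    have he' : J0 (cj g' (R : Subgroup Y)) ≠ J1 := by
      intro he'
      refine he (Subgroup.eq_of_le_of_card_ge (memJ_mono inf_le_left) ?_).symm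
      show Nat.card (J0 (cj g (R : Subgroup Y))) ≤ Nat.card J1
      rw [← he', hJ0, memJ_cj, memJ_cj, card_cj, card_cj]
    have hgtg := hgt g inf_le_left he
    have hgtg' := hgt g' inf_le_right he'
    -- a Sylow subgroup of `Y1`
    set Q := cj g (R : Subgroup Y) ⊓ Y1 with hQ
    set Q' := cj g' (R : Subgroup Y) ⊓ Y1 with hQ'
    obtain ⟨R1, hR1⟩ := ((R.2.map (MulAut.conj g).toMonoidHom).to_le inf_le_left :
      IsPGroup p Q).comap_of_injective Y1.subtype Y1.subtype_injective |>.exists_le_sylow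
    obtain ⟨h, hh⟩ := exists_le_cj R (R1.2.map Y1.subtype)
    have hQR1 : Q ≤ (R1 : Subgroup Y1).map Y1.subtype := fun t ht => ⟨⟨t, ht.2⟩, hR1 ht, rfl⟩
    have hmeas : ∀ E : Subgroup Y, J0 Q ≤ J0 E →
        Nat.card Y - Nat.card (J0 E) < Nat.card Y - Nat.card J1 := by
      intro E hE
      have h1 : Nat.card J1 < Nat.card (J0 Q) := lt_of_le_of_ne (Subgroup.card_le_of_le hgtg.le)
        fun e => hgtg.ne (Subgroup.eq_of_le_of_card_ge hgtg.le e.ge)
      have h2 := Subgroup.card_le_of_le hE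
      have h3 := Subgroup.card_le_card_group (J0 E)
      omega
    have hu : g * x * g⁻¹ = h * x * h⁻¹ :=
      ihk _ (hk ▸ hmeas _ (memJ_mono (le_inf inf_le_left (hQR1.trans hh))))
        g h A hA hAC hAg ((hAJ.trans (hgtg.le.trans (memJ_le _))).trans (hQR1.trans hh)) rfl
    obtain ⟨R1', hR1'⟩ := ((R.2.map (MulAut.conj g').toMonoidHom).to_le inf_le_left :
      IsPGroup p Q').comap_of_injective Y1.subtype Y1.subtype_injective |>.exists_le_sylow
    obtain ⟨⟨c, hc⟩, hcR⟩ := MulAction.exists_smul_eq Y1 R1 R1'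
    have hQ'h : Q' ≤ cj (c * h) (R : Subgroup Y) := by
      intro t ht
      have h1 : (⟨t, ht.2⟩ : Y1) ∈ (R1' : Subgroup Y1) := hR1' ht
      rw [← hcR] at h1
      obtain ⟨s, hs, hst⟩ := h1
      rw [cj_mul]
      exact ⟨s, hh ⟨s, hs, rfl⟩, congrArg Subtype.val hst⟩
    have hmeas' : Nat.card Y - Nat.card (J0 (cj g' (R : Subgroup Y) ⊓ cj (c * h) (R : Subgroup Y))) <
        Nat.card Y - Nat.card J1 := by
      have h1 : Nat.card J1 < Nat.card (J0 Q') := lt_of_le_of_ne (Subgroup.card_le_of_le hgtg'.le)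
        fun e => hgtg'.ne (Subgroup.eq_of_le_of_card_ge hgtg'.le e.ge)
      have h2 := Subgroup.card_le_of_le (memJ_mono (p := p) (W := W) (a := M)
        (show Q' ≤ cj g' (R : Subgroup Y) ⊓ cj (c * h) (R : Subgroup Y) from le_inf inf_le_left hQ'h))
      have h3 := Subgroup.card_le_card_group
        (J0 (cj g' (R : Subgroup Y) ⊓ cj (c * h) (R : Subgroup Y)))
      rw [hJ0] at *
      omega
    have hu' : g' * x * g'⁻¹ = c * h * x * (c * h)⁻¹ :=
      ihk _ (hk ▸ hmeas') g' (c * h) A hA hAC hAg'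
        ((hAJ.trans (hgtg'.le.trans (memJ_le _))).trans hQ'h) rfl
    -- so it suffices that `Y1` fixes the conjugate
    suffices hfix : ∀ n ∈ Y1, n * (h * x * h⁻¹) = h * x * h⁻¹ * n by
      rw [hu, hu', show c * h * x * (c * h)⁻¹ = c * (h * x * h⁻¹) * c⁻¹ by group, hfix c hc,
        mul_inv_cancel_right]
    by_cases htop : Y1 = ⊤
    · exact absurd (hAJ.trans (hnormal J1 (Subgroup.normalizer_eq_top_iff.1 htop)
        (hJ0p ((R.2.map _).to_le inf_le_left)))) hAC
    have hWY : W ≤ Y1 := by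
      intro w hw
      refine mem_normalizer_of_cj_le ?_
      rw [cj, Subgroup.map_le_iff_le_comap]
      refine sSup_le fun B hB => Subgroup.map_le_iff_le_comap.1 ?_
      have h1 : cj w B = B := cj_eq_of_mem_normalizer (hB.1.2.2.2 hw)
      show cj w B ≤ J1
      rw [h1]
      exact le_memJ hB.1 hB.2
    refine apply_subgroup hN ih V hVc hVp Y1 htop R1 (z := h * z * h⁻¹) (x := h * x * h⁻¹)
      (hVn.conj_mem z hzV h) (hWY (hzW h)) (hWY (hxW h)) ?_ ?_ ?_
    · intro r hr
      have h1 := hRz _ (mem_cj.1 (hh hr))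
      calc r * (h * z * h⁻¹) = h * ((h⁻¹ * r * h) * z) * h⁻¹ := by group
        _ = h * (z * (h⁻¹ * r * h)) * h⁻¹ := by rw [h1]
        _ = h * z * h⁻¹ * r := by group
    · rcases hcase with ⟨h1, h2⟩ | h1
      · exact Or.inl ⟨by rw [h1], h2⟩
      · exact Or.inr (by rw [h1, conj_pow])
    · intro n _ hn
      set T := (R1 : Subgroup Y1).map Y1.subtype with hT
      have hAT : A ≤ T := (hAJ.trans (hgtg.le.trans (memJ_le _))).trans hQR1
      have hTp : IsPGroup p T := R1.2.map _
      have hTa : abOrder T = M := le_antisymm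
        (hglob _ (hTp.to_le (exists_maxAb T).choose_spec.1) (exists_maxAb T).choose_spec.2.1)
        (hA.2.2.1.ge.trans (card_le_abOrder hAT hA.2.1))
      have hTJ : J0 T = J0 (abJ T) := by
        refine le_antisymm (sSup_le fun B hB => le_memJ hB.1 (le_abJ ?_)) (memJ_mono (abJ_le T))
        exact mem_maxAb hB.2 hB.1.2.1 (by rw [hTa, hB.1.2.2.1])
      have hnJ : n ∈ Subgroup.normalizer (J0 T : Set Y) := by
        rw [hTJ]; exact normalizer_le_normalizer_memJ _ hn
      have hle1 : J0 T ≤ cj (n * h) (R : Subgroup Y) := by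
        rw [cj_mul, ← cj_eq_of_mem_normalizer hnJ]
        exact cj_mono n ((memJ_le _).trans hh)
      have hmono : J0 Q ≤ J0 (cj h (R : Subgroup Y) ⊓ cj (n * h) (R : Subgroup Y)) := by
        refine (memJ_mono hQR1).trans ?_
        rw [hJ0, ← memJ_memJ T]
        exact memJ_mono (le_inf ((memJ_le _).trans hh) hle1)
      have := ihk _ (hk ▸ hmeas _ hmono) h (n * h) A hA hAC (hAT.trans hh)
        ((le_memJ hA hAT).trans hle1) rfl
      calc n * (h * x * h⁻¹) = (n * h * x * (n * h)⁻¹) * n := by group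
        _ = h * x * h⁻¹ * n := by rw [← this]
  -- the norm
  letI : CommGroup W := { (inferInstance : Group W) with
    mul_comm := fun a b => Subtype.ext (isMulCommutative_apply hWc a.2 b.2) }
  haveI : Fintype (Y ⧸ (R : Subgroup Y)) := Fintype.ofFinite _
  let F : Y ⧸ (R : Subgroup Y) → W := Quotient.lift (fun g : Y => (⟨g * x * g⁻¹, hxW g⟩ : W))
    fun g g' hgg => by
      have hs : g⁻¹ * g' ∈ (R : Subgroup Y) := QuotientGroup.leftRel_apply.1 hgg
      refine Subtype.ext (show g * x * g⁻¹ = g' * x * g'⁻¹ from ?_)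
      have h1 : (g⁻¹ * g') * x = x * (g⁻¹ * g') := by
        rcases hcase with ⟨h, -⟩ | h <;> rw [h]
        · exact hRz _ hs
        · exact (Commute.pow_right (hRz _ hs) p).eq
      calc g * x * g⁻¹ = g * (x * (g⁻¹ * g')) * g'⁻¹ := by group
        _ = g * ((g⁻¹ * g') * x) * g'⁻¹ := by rw [h1]
        _ = g' * x * g'⁻¹ := by group
  set xW : W := ⟨x, hxW1⟩ with hxWdef
  set E : Y ⧸ (R : Subgroup Y) → W := fun q => F q * xW⁻¹ with hE
  -- one orbit of a member
  have horbit : ∀ A, IsMember p W M A → A ≤ (R : Subgroup Y) → ∀ q : Y ⧸ (R : Subgroup Y),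
      (∃ a : A, a • q ≠ q) →
      ∏ o ∈ (Finset.univ.filter fun o => o ∈ MulAction.orbit A q), E o = 1 := by
    intro A hA _ q hmove
    obtain ⟨k, rfl⟩ := QuotientGroup.mk_surjective q
    set B := MulAction.stabilizer A (QuotientGroup.mk k : Y ⧸ (R : Subgroup Y)) with hB
    haveI : Fintype (A ⧸ B) := Fintype.ofFinite _
    letI : CommGroup A := { (inferInstance : Group A) with
      mul_comm := fun a b => Subtype.ext (isMulCommutative_apply hA.2.1 a.2 b.2) }
    have hBmem : ∀ b : A, b ∈ B → (b : Y) ∈ cj k (R : Subgroup Y) := by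
      intro b hb
      have h1 : (QuotientGroup.mk ((b : Y) * k) : Y ⧸ (R : Subgroup Y)) = QuotientGroup.mk k := hb
      rw [eq_comm, QuotientGroup.eq, ← mul_assoc] at h1
      exact mem_cj.2 h1
    have hBfix : ∀ b ∈ B, conjAct W A b ⟨k * z * k⁻¹, hzW k⟩ = ⟨k * z * k⁻¹, hzW k⟩ := by
      intro b hb
      refine Subtype.ext ?_
      rw [conjAct_apply]
      show (b : Y) * (k * z * k⁻¹) * (b : Y)⁻¹ = k * z * k⁻¹
      have h1 := hRz _ (mem_cj.1 (hBmem b hb))
      calc (b : Y) * (k * z * k⁻¹) * (b : Y)⁻¹ = k * ((k⁻¹ * b * k) * z) * k⁻¹ * (b : Y)⁻¹ := by group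
        _ = k * (z * (k⁻¹ * b * k)) * k⁻¹ * (b : Y)⁻¹ := by rw [h1]
        _ = k * z * k⁻¹ := by group
    set u : W := ⟨k * x * k⁻¹, hxW k⟩ with hudef
    have hu : u = ⟨k * z * k⁻¹, hzW k⟩ ∨ u = (⟨k * z * k⁻¹, hzW k⟩ : W) ^ p := by
      rcases hcase with ⟨h, -⟩ | h
      · exact Or.inl (Subtype.ext (show k * x * k⁻¹ = k * z * k⁻¹ by rw [h]))
      · exact Or.inr (Subtype.ext (show k * x * k⁻¹ = (k * z * k⁻¹) ^ p by rw [h, conj_pow]))
    have hup : (u : W) ^ p = xW ^ p := Subtype.ext (show (k * x * k⁻¹) ^ p = x ^ p by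
      rw [conj_pow, hzp_case k, mul_inv_cancel_right])
    have hu2 : ∀ a : A, conjAct W A a (u ^ p) = u ^ p := by
      intro a
      rw [hup]
      refine Subtype.ext ?_
      rw [conjAct_apply]
      show (a : Y) * x ^ p * (a : Y)⁻¹ = x ^ p
      rw [hzp_case, mul_inv_cancel_right]
    have hquad : ∀ a b : A, ∀ v : W, conjAct W A a (conjAct W A b v * v⁻¹) = conjAct W A b v * v⁻¹ := by
      intro a b v
      refine Subtype.ext ?_
      simp only [conjAct_apply, Subgroup.coe_mul, InvMemClass.coe_inv]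
      exact quadratic_of_member hA b.2 a.2 v.2
    have hcard : p ∣ Nat.card (A ⧸ B) := by
      obtain ⟨j, hj⟩ := IsPGroup.iff_card.1 (hA.1.to_quotient B)
      rcases j with _ | j
      · exfalso
        obtain ⟨a, ha⟩ := hmove
        haveI : Subsingleton (A ⧸ B) := (Nat.card_eq_one_iff_unique.1 (by simpa using hj)).1
        refine ha ?_
        have : a ∈ B := (QuotientGroup.eq_one_iff a).1 (Subsingleton.elim _ _)
        exact this
      · exact hj ▸ dvd_pow_self p (by omega)
    let ι : A ⧸ B → Y ⧸ (R : Subgroup Y) :=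
      MulAction.ofQuotientStabilizer A (QuotientGroup.mk k : Y ⧸ (R : Subgroup Y))
    have hι : Function.Injective ι := MulAction.injective_ofQuotientStabilizer A _
    have hFι : ∀ a : A, F (ι a) = conjAct W A a u := by
      intro a
      refine Subtype.ext ?_
      rw [conjAct_apply]
      show (a : Y) * k * x * ((a : Y) * k)⁻¹ = a * (k * x * k⁻¹) * (a : Y)⁻¹
      group
    have hset : (Finset.univ.filter fun o => o ∈ MulAction.orbit A
        (QuotientGroup.mk k : Y ⧸ (R : Subgroup Y))) = Finset.univ.image ι := by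
      ext o
      simp only [Finset.mem_filter, Finset.mem_univ, true_and, Finset.mem_image]
      constructor
      · rintro ⟨a, rfl⟩
        exact ⟨QuotientGroup.mk a, rfl⟩
      · rintro ⟨qa, rfl⟩
        induction qa using QuotientGroup.induction_on with
        | H a => exact ⟨a, rfl⟩
    rw [hset, Finset.prod_image fun a _ b _ hab => hι hab]
    suffices hprod : ∏ q : A ⧸ B, F (ι q) = u ^ Nat.card (A ⧸ B) by
      simp only [hE, Finset.prod_mul_distrib, Finset.prod_const, Finset.card_univ]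
      rw [hprod, ← Nat.card_eq_fintype_card, inv_pow]
      obtain ⟨j, hj⟩ := hcard
      rw [hj, pow_mul, pow_mul, hup, mul_inv_cancel]
    by_cases hbad : p ≠ 2 ∨ u = (⟨k * z * k⁻¹, hzW k⟩ : W) ^ p ∨ Nat.card (A ⧸ B) ≠ 2
    · exact orbit_prod hA.1 (conjAct W A) hquad B _ u hBfix hu hu2 hbad (fun q => F (ι q)) hFι
    push Not at hbad
    obtain ⟨hp2, hune, hc2⟩ := hbad
    subst hp2
    have huz : u = ⟨k * z * k⁻¹, hzW k⟩ := hu.resolve_right hune
    by_cases hmv : ∀ a : A, conjAct W A a u = u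
    · have : ∀ q, F (ι q) = u := by
        intro q
        induction q using QuotientGroup.induction_on with
        | H a => rw [hFι, hmv]
      rw [Finset.prod_congr rfl fun q _ => this q, Finset.prod_const, Finset.card_univ,
        Nat.card_eq_fintype_card]
    push Not at hmv
    obtain ⟨a, ha⟩ := hmv
    exfalso
    have hxz : x = z := by
      have h1 : k * x * k⁻¹ = k * z * k⁻¹ := congrArg Subtype.val huz
      exact mul_left_cancel (mul_right_cancel h1)
    subst hxz
    have hS4 : ¬ Cfsg.Involves (Equiv.Perm (Fin 4)) Y := by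
      rcases hcase with ⟨-, h⟩ | h
      · exact h.resolve_left (fun h => h rfl)
      · exfalso; exact hune (Subtype.ext (show k * x * k⁻¹ = (k * x * k⁻¹) ^ 2 by rw [conj_pow, ← h]))
    refine hS4 (involves_of_bad (R := R) hWc hWp hRz hCiff hglob (fun y => by simpa [sq] using hzp_case y)
      (fun g g' A' hA' hA'C h1 h2 => huniq _ g g' A' hA' hA'C h1 h2 rfl) hA
      (B := B.map A.subtype) (Subgroup.map_subtype_le _) ?_ k (hzW k) ?_ a.2 ?_)
    · rw [Subgroup.card_map_of_injective A.subtype_injective, mul_comm]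
      have h2 : Nat.card A = 2 * Nat.card B := by
        have h3 := B.index_mul_card
        rw [show B.index = 2 from hc2] at h3
        exact h3.symm
      rw [h2, mul_comm]
    · rintro _ ⟨b, hb, rfl⟩
      exact hBmem b hb
    · intro he
      exact ha (Subtype.ext (by rw [conjAct_apply]; exact he))
  -- an invariant set without fixed points
  have hinvset : ∀ A, IsMember p W M A → A ≤ (R : Subgroup Y) → ∀ s : Finset (Y ⧸ (R : Subgroup Y)),
      (∀ a : A, ∀ o ∈ s, a • o ∈ s) → (∀ o ∈ s, ∃ a : A, a • o ≠ o) → ∏ o ∈ s, E o = 1 := by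
    intro A hA hAR s
    induction s using Finset.strongInduction with
    | _ s ihs =>
    intro hinv hfree
    rcases s.eq_empty_or_nonempty with rfl | ⟨q, hq⟩
    · simp
    set O := Finset.univ.filter fun o => o ∈ MulAction.orbit A q with hO
    have hOs : O ⊆ s := by
      intro o ho
      simp only [hO, Finset.mem_filter, Finset.mem_univ, true_and] at ho
      obtain ⟨a, rfl⟩ := ho
      exact hinv a q hq
    have hqO : q ∈ O := by simp [hO]
    rw [← Finset.prod_sdiff hOs, horbit A hA hAR q (hfree q hq), mul_one]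
    refine ihs (s \ O) (Finset.sdiff_ssubset hOs ⟨q, hqO⟩) (fun a o ho => ?_)
      fun o ho => hfree o (Finset.mem_sdiff.1 ho).1
    rw [Finset.mem_sdiff] at ho ⊢
    refine ⟨hinv a o ho.1, fun h => ho.2 ?_⟩
    simp only [hO, Finset.mem_filter, Finset.mem_univ, true_and] at h ⊢
    obtain ⟨b, hb⟩ := h
    refine ⟨a⁻¹ * b, ?_⟩
    show (a⁻¹ * b) • q = o
    rw [mul_smul, show b • q = a • o from hb, inv_smul_smul]
  -- orbits of `J0 R`
  set K := J0 (R : Subgroup Y) with hK
  have hKorb : ∀ q : Y ⧸ (R : Subgroup Y), (∃ k : K, k • q ≠ q) →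
      ∏ o ∈ (Finset.univ.filter fun o => o ∈ MulAction.orbit K q), E o = 1 := by
    intro q hq
    have hne : MulAction.stabilizer K q ≠ ⊤ := by
      intro h
      obtain ⟨k, hk⟩ := hq
      exact hk (h ▸ Subgroup.mem_top k : k ∈ MulAction.stabilizer K q)
    obtain ⟨Mx, hMx, hle⟩ := (eq_top_or_exists_le_coatom (MulAction.stabilizer K q)).resolve_left hne
    haveI := (hJ0p R.2 : IsPGroup p K).isNilpotent
    haveI : Mx.Normal := Subgroup.NormalizerCondition.normal_of_coatom _
      Group.normalizerCondition_of_isNilpotent hMx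
    obtain ⟨A, hA, hAR, hAM⟩ : ∃ A, IsMember p W M A ∧ A ≤ (R : Subgroup Y) ∧ ¬ A.subgroupOf K ≤ Mx := by
      by_contra hcon
      push Not at hcon
      refine hMx.1 (eq_top_iff.2 ?_)
      have h1 : K ≤ Mx.map K.subtype := by
        refine sSup_le fun A hA => ?_
        intro a ha
        exact ⟨⟨a, le_memJ hA.1 hA.2 ha⟩, hcon A hA.1 hA.2 ha, rfl⟩
      intro k _
      obtain ⟨k', hk', he⟩ := h1 k.2
      rwa [← Subtype.ext he]
    refine hinvset A hA hAR _ (fun a o ho => ?_) (fun o ho => ?_)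
    · simp only [Finset.mem_filter, Finset.mem_univ, true_and] at ho ⊢
      obtain ⟨k, rfl⟩ := ho
      exact ⟨⟨a, le_memJ hA hAR a.2⟩ * k, mul_smul (α := K) ⟨a, le_memJ hA hAR a.2⟩ k q⟩
    · simp only [Finset.mem_filter, Finset.mem_univ, true_and] at ho
      obtain ⟨k, rfl⟩ := ho
      by_contra hfix
      push Not at hfix
      refine hAM fun a ha => ?_
      have h1 : k⁻¹ * a * k ∈ MulAction.stabilizer K q := by
        have h2 : a • (k • q) = k • q := hfix ⟨a, ha⟩
        rw [MulAction.mem_stabilizer_iff, mul_smul, mul_smul, h2, inv_smul_smul]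
      have h3 := (inferInstance : Mx.Normal).conj_mem _ (hle h1) k
      simpa [mul_assoc] using h3
  have hmoved : ∀ s : Finset (Y ⧸ (R : Subgroup Y)), (∀ k : K, ∀ o ∈ s, k • o ∈ s) →
      (∀ o ∈ s, ∃ k : K, k • o ≠ o) → ∏ o ∈ s, E o = 1 := by
    intro s
    induction s using Finset.strongInduction with
    | _ s ihs =>
    intro hinv hfree
    rcases s.eq_empty_or_nonempty with rfl | ⟨q, hq⟩
    · simp
    set O := Finset.univ.filter fun o => o ∈ MulAction.orbit K q with hO
    have hOs : O ⊆ s := by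
      intro o ho
      simp only [hO, Finset.mem_filter, Finset.mem_univ, true_and] at ho
      obtain ⟨a, rfl⟩ := ho
      exact hinv a q hq
    have hqO : q ∈ O := by simp [hO]
    rw [← Finset.prod_sdiff hOs, hKorb q (hfree q hq), mul_one]
    refine ihs (s \ O) (Finset.sdiff_ssubset hOs ⟨q, hqO⟩) (fun a o ho => ?_)
      fun o ho => hfree o (Finset.mem_sdiff.1 ho).1
    rw [Finset.mem_sdiff] at ho ⊢
    refine ⟨hinv a o ho.1, fun h => ho.2 ?_⟩
    simp only [hO, Finset.mem_filter, Finset.mem_univ, true_and] at h ⊢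
    obtain ⟨b, hb⟩ := h
    refine ⟨a⁻¹ * b, ?_⟩
    show (a⁻¹ * b) • q = o
    rw [mul_smul, show b • q = a • o from hb, inv_smul_smul]
  have hprodE : ∏ q, E q = 1 := by
    set s := Finset.univ.filter fun o : Y ⧸ (R : Subgroup Y) => ∃ k : K, k • o ≠ o with hs
    rw [← Finset.prod_sdiff (Finset.subset_univ s), hmoved s ?_ ?_, mul_one]
    · refine Finset.prod_eq_one fun o ho => ?_
      simp only [hs, Finset.mem_sdiff, Finset.mem_univ, true_and, Finset.mem_filter, not_exists,
        not_not] at ho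
      obtain ⟨g, rfl⟩ := QuotientGroup.mk_surjective o
      have hle : J0 (R : Subgroup Y) ≤ cj g (R : Subgroup Y) := by
        intro t ht
        have h1 : (QuotientGroup.mk (t * g) : Y ⧸ (R : Subgroup Y)) = QuotientGroup.mk g := ho ⟨t, ht⟩
        rw [eq_comm, QuotientGroup.eq, ← mul_assoc] at h1
        exact mem_cj.2 h1
      have h2 : J0 (R : Subgroup Y) = J0 (cj g (R : Subgroup Y)) := by
        refine Subgroup.eq_of_le_of_card_ge ?_ (by rw [hJ0, memJ_cj, card_cj])
        rw [hJ0, ← memJ_memJ (R : Subgroup Y)]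
        exact memJ_mono hle
      have hg : g ∈ Subgroup.normalizer (J0 (R : Subgroup Y) : Set Y) := by
        refine mem_normalizer_of_cj_le (le_of_eq ?_)
        rw [hJ0, ← memJ_cj]
        exact h2.symm
      refine mul_inv_eq_one.2 (Subtype.ext ?_)
      show g * x * g⁻¹ = x
      rw [H0 g hg, mul_inv_cancel_right]
    · intro k o ho
      simp only [hs, Finset.mem_filter, Finset.mem_univ, true_and] at ho ⊢
      obtain ⟨k', hk'⟩ := ho
      refine ⟨k * k' * k⁻¹, fun h => hk' ?_⟩
      rw [mul_smul, mul_smul, inv_smul_smul, smul_left_cancel_iff] at h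
      exact h
    · intro o ho
      simp only [hs, Finset.mem_filter, Finset.mem_univ, true_and] at ho
      exact ho
  refine hfin fun y => ?_
  -- the product of the conjugates is central
  set c : W := ∏ q, F q with hc
  have hcn : c = xW ^ Nat.card (Y ⧸ (R : Subgroup Y)) := by
    have h1 : ∏ q, E q = c * (xW ^ Nat.card (Y ⧸ (R : Subgroup Y)))⁻¹ := by
      simp only [hE, Finset.prod_mul_distrib, Finset.prod_const, Finset.card_univ,
        Nat.card_eq_fintype_card, hc, inv_pow]
    rw [hprodE] at h1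
    exact mul_inv_eq_one.1 h1.symm
  have hcc : y * (c : Y) * y⁻¹ = c := by
    have h1 : MulAut.conjNormal y c = c := by
      rw [hc, map_prod]
      refine Fintype.prod_equiv (MulAction.toPerm y) _ _ fun q => ?_
      induction q using QuotientGroup.induction_on with
      | H g =>
        refine Subtype.ext ?_
        rw [MulAut.conjNormal_apply]
        show y * (g * x * g⁻¹) * y⁻¹ = y * g * x * (y * g)⁻¹
        group
    rw [← MulAut.conjNormal_apply, h1]
  rw [hcn] at hcc
  have hn' : Commute y (x ^ Nat.card (Y ⧸ (R : Subgroup Y))) := by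
    show y * _ = _ * y
    have h2 : y * x ^ Nat.card (Y ⧸ (R : Subgroup Y)) * y⁻¹ = x ^ Nat.card (Y ⧸ (R : Subgroup Y)) := by
      simpa [hxWdef] using hcc
    calc y * x ^ Nat.card (Y ⧸ (R : Subgroup Y))
        = y * x ^ Nat.card (Y ⧸ (R : Subgroup Y)) * y⁻¹ * y := by group
      _ = _ := by rw [h2]
  obtain ⟨e, he⟩ := IsPGroup.iff_orderOf.1 hVp ⟨x, hWV hxW1⟩
  rw [Subgroup.orderOf_mk] at he
  have hcop : (Nat.card (Y ⧸ (R : Subgroup Y))).Coprime (orderOf x) := by
    rw [he]
    exact (((Fact.out : p.Prime).coprime_iff_not_dvd.2 R.not_dvd_index).symm).pow_right e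
  obtain ⟨j, hj⟩ := exists_pow_eq_self_of_coprime hcop
  rw [← hj]
  exact (hn'.pow_right j).eq

/-- Glauberman's theorem, the abelian normal case. -/
theorem inner (V : Subgroup Y) [V.Normal] (hVc : IsMulCommutative V) (hVp : IsPGroup p V)
    (R : Sylow p Y) {z x : Y} (hz : z ∈ V) (hRz : ∀ r ∈ (R : Subgroup Y), r * z = z * r)
    (hcase : ExpCase p Y z x)
    (hN : ∀ n ∈ Subgroup.normalizer (abJ (R : Subgroup Y) : Set Y), n * x = x * n) :
    ∀ y : Y, y * x = x * y :=
  inner_aux _ Y rfl V inferInstance hVc hVp R z x hz hRz hcase hN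

end CfsgLib.WeakClosureJ
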