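import Cfsg.Agent.WeakClosureJ.Members
import Cfsg.Agent.GlaubermanZJ.SylowNormal

/-!
Factorisation of a finite group by the centraliser of the `p`-th powers of a set of elements central in a
Sylow subgroup `R`, and the normaliser of a characteristic subgroup of `R` related to `J(R)`.
-/

set_option autoImplicit false

namespace CfsgLib.WeakClosureJ

open Cfsg CfsgLib.GlaubermanZJ

variable {Y : Type*} [Group Y] [Finite Y] {p : ℕ} [Fact p.Prime]

/-- A normal subgroup over the normal `C` with `p`-group quotient centralises the conjugates of an element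
`z` central in a Sylow subgroup and centralised by `C`. -/
theorem commute_conj_of_pGroup_image (R : Sylow p Y) {C T : Subgroup Y} [C.Normal] [T.Normal] (hCT : C ≤ T)
    (hk : ∃ k : ℕ, C.relIndex T = p ^ k) {z : Y} (hRz : ∀ r ∈ (R : Subgroup Y), r * z = z * r)
    (hCz : ∀ c ∈ C, c * z = z * c) {d : Y} (hd : d ∈ T) (g : Y) :
    d * (g * z * g⁻¹) = g * z * g⁻¹ * d := by
  have h1 : ∀ e ∈ T, e * z = z * e := by
    intro e he
    obtain ⟨c, hc, s, hsR, -, rfl⟩ := exists_mul_of_relIndex_pow R hCT hk he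
    rw [mul_assoc, hRz s hsR, ← mul_assoc, hCz c hc, mul_assoc]
  have h2 : g⁻¹ * d * g ∈ T := by simpa using (inferInstance : T.Normal).conj_mem d hd g⁻¹
  calc d * (g * z * g⁻¹) = g * ((g⁻¹ * d * g) * z) * g⁻¹ := by group
    _ = g * (z * (g⁻¹ * d * g)) * g⁻¹ := by rw [h1 _ h2]
    _ = g * z * g⁻¹ * d := by group

/-- Commuting with `d = a w a⁻¹ w⁻¹` the element `a` has powers acting by the powers of `d`. -/
theorem pow_conj_of_commute {G : Type*} [Group G] {a w d : G} (hd : a * w * a⁻¹ = d * w)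
    (had : a * d * a⁻¹ = d) (n : ℕ) : a ^ n * w * (a ^ n)⁻¹ = d ^ n * w := by
  induction n with
  | zero => simp
  | succ n ih =>
    have had' : a * d ^ n * a⁻¹ = d ^ n := by rw [← conj_pow, had]
    calc a ^ (n + 1) * w * (a ^ (n + 1))⁻¹ = a * (a ^ n * w * (a ^ n)⁻¹) * a⁻¹ := by
          rw [pow_succ']; group
      _ = (a * d ^ n * a⁻¹) * (a * w * a⁻¹) := by rw [ih]; group
      _ = d ^ n * (d * w) := by rw [had', hd]
      _ = d ^ (n + 1) * w := by rw [pow_succ, mul_assoc]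

omit [Fact p.Prime] in
/-- An element of order prime to `p` centralising the elements of order `p` of an abelian `p`-subgroup it
normalises centralises all of it. -/
theorem commute_of_omega {W : Subgroup Y} (hWc : IsMulCommutative W) (hWp : IsPGroup p W)
    (hp : p.Prime) {t : Y} (hnorm : ∀ w ∈ W, t * w * t⁻¹ ∈ W)
    (hord : (orderOf t).Coprime p) (hΩ : ∀ w ∈ W, w ^ p = 1 → t * w = w * t) :
    ∀ w ∈ W, t * w = w * t := by
  suffices h : ∀ e : ℕ, ∀ w ∈ W, w ^ p ^ e = 1 → t * w = w * t by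
    intro w hw
    obtain ⟨e, he⟩ := hWp ⟨w, hw⟩
    exact h e w hw (congrArg Subtype.val he)
  intro e
  induction e with
  | zero =>
    intro w _ h
    rw [pow_zero, pow_one] at h
    simp [h]
  | succ e ih =>
    intro w hw h
    have hwp : t * w ^ p = w ^ p * t := ih _ (pow_mem hw p) (by rw [← pow_mul, ← pow_succ']; exact h)
    set d := t * w * t⁻¹ * w⁻¹ with hd
    have hdW : d ∈ W := mul_mem (hnorm w hw) (inv_mem hw)
    have hdp : d ^ p = 1 := by
      have hc : Commute (t * w * t⁻¹) w⁻¹ :=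
        isMulCommutative_apply hWc (hnorm w hw) (inv_mem hw)
      rw [hd, hc.mul_pow, conj_pow, hwp, mul_inv_cancel_right, inv_pow, mul_inv_cancel]
    have htd : t * d * t⁻¹ = d := by rw [hΩ d hdW hdp, mul_inv_cancel_right]
    have hn := pow_conj_of_commute (w := w) (show t * w * t⁻¹ = d * w by rw [hd]; group) htd (orderOf t)
    rw [pow_orderOf_eq_one, one_mul, inv_one, mul_one] at hn
    have hd1 : d = 1 := by
      refine orderOf_eq_one_iff.1 (Nat.eq_one_of_dvd_coprimes hord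
        (orderOf_dvd_of_pow_eq_one ?_) (orderOf_dvd_of_pow_eq_one hdp))
      exact mul_eq_right.1 hn.symm
    calc t * w = d * w * t := by rw [hd]; group
      _ = w * t := by rw [hd1, one_mul]

/-- An element acting quadratically on the normal closure `W` of a set central in a Sylow subgroup
centralises the `p`-th powers of `W`. -/
theorem quadratic_commute_pow (R : Sylow p Y) (Zs : Set Y)
    (hRz : ∀ z ∈ Zs, ∀ r ∈ (R : Subgroup Y), r * z = z * r)
    {A0 : Subgroup Y} [A0.Normal] (hA0c : IsMulCommutative A0) (hA0p : IsPGroup p A0)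
    (hZA0 : Zs ⊆ (A0 : Set Y)) {b : Y}
    (hd : ∀ w ∈ Subgroup.normalClosure Zs, b * (b * w * b⁻¹ * w⁻¹) * b⁻¹ = b * w * b⁻¹ * w⁻¹) :
    ∀ w ∈ Subgroup.normalClosure Zs, b * w ^ p = w ^ p * b := by
  classical
  have hp : p.Prime := Fact.out
  set W := Subgroup.normalClosure Zs with hW
  have hWA : W ≤ A0 := Subgroup.normalClosure_le_normal hZA0
  have hWc : IsMulCommutative W :=
    ⟨⟨fun a b => Subtype.ext (isMulCommutative_apply hA0c (hWA a.2) (hWA b.2))⟩⟩
  have hWp : IsPGroup p W := hA0p.to_le hWA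
  haveI hWn : W.Normal := Subgroup.normalClosure_normal
  have hWR : W ≤ (R : Subgroup Y) := by simpa [cj_one] using normal_pGroup_le_cj R hWp 1
  set C := Subgroup.centralizer (W : Set Y) with hC
  haveI : C.Normal := by rw [hC]; infer_instance
  have hCz : ∀ z ∈ Zs, ∀ c ∈ C, c * z = z * c := fun z hz c hc =>
    (Subgroup.mem_centralizer_iff.1 hc z (Subgroup.subset_normalClosure hz)).symm
  have hgen : ∀ d : Y, (∀ z ∈ Zs, ∀ g : Y, d * (g * z * g⁻¹) = g * z * g⁻¹ * d) → d ∈ C := by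
    intro d hd
    refine Subgroup.mem_centralizer_iff.2 fun w hw => ?_
    have hle : W ≤ Subgroup.centralizer ({d} : Set Y) := by
      rw [hW, Subgroup.normalClosure, Subgroup.closure_le]
      intro w hw
      obtain ⟨z, hz, hzw⟩ := Group.mem_conjugatesOfSet_iff.1 hw
      obtain ⟨g, rfl⟩ := isConj_iff.1 hzw
      exact Subgroup.mem_centralizer_singleton_iff.2 (hd z hz g).symm
    exact Subgroup.mem_centralizer_singleton_iff.1 (hle hw)
  -- the centraliser of the elements of order `p` of `W`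
  set Om : Set Y := {w | w ∈ W ∧ w ^ p = 1} with hOm
  set T := Subgroup.centralizer Om with hT
  haveI hTn : T.Normal := by
    refine ⟨fun t ht g => Subgroup.mem_centralizer_iff.2 fun w hw => ?_⟩
    have hw' : g⁻¹ * w * g ∈ Om := by
      refine ⟨by simpa using hWn.conj_mem w hw.1 g⁻¹, ?_⟩
      rw [show g⁻¹ * w * g = g⁻¹ * w * g⁻¹⁻¹ by rw [inv_inv], conj_pow, hw.2, mul_one, mul_inv_cancel]
    have h1 := Subgroup.mem_centralizer_iff.1 ht _ hw'
    calc w * (g * t * g⁻¹) = g * ((g⁻¹ * w * g) * t) * g⁻¹ := by group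
      _ = g * (t * (g⁻¹ * w * g)) * g⁻¹ := by rw [h1]
      _ = g * t * g⁻¹ * w := by group
  have hCT : C ≤ T := Subgroup.centralizer_le fun w hw => hw.1
  have hquot : IsPGroup p (T ⧸ C.subgroupOf T) := by
    intro q
    induction q using QuotientGroup.induction_on with
    | H t =>
      obtain ⟨k, m, hm, hkm⟩ := Nat.exists_eq_pow_mul_and_not_dvd (orderOf_pos t).ne' p hp.ne_one
      refine ⟨k, ?_⟩
      rw [← QuotientGroup.mk_pow, QuotientGroup.eq_one_iff, Subgroup.mem_subgroupOf]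
      refine Subgroup.mem_centralizer_iff.2 fun w hw => ((commute_of_omega hWc hWp hp
        (t := ((t ^ p ^ k : T) : Y)) (fun v hv => hWn.conj_mem v hv _) ?_ (fun v hv hvp =>
          (Subgroup.mem_centralizer_iff.1 (t ^ p ^ k : T).2 v ⟨hv, hvp⟩).symm)) w hw).symm
      rw [Subgroup.orderOf_coe, orderOf_pow' _ (pow_ne_zero _ hp.ne_zero), hkm, Nat.gcd_mul_right_left,
        Nat.mul_div_cancel_left _ (pow_pos hp.pos _)]
      exact (hp.coprime_iff_not_dvd.2 hm).symm
  have hTC : T ≤ C := fun d hd => hgen d fun z hz g =>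
    commute_conj_of_pGroup_image R hCT (IsPGroup.iff_card.1 hquot) (hRz z hz) (hCz z hz) hd g
  have hpow : ∀ w ∈ W, b ^ p * w * (b ^ p)⁻¹ = (b * w * b⁻¹ * w⁻¹) ^ p * w := fun w hw =>
    pow_conj_of_commute (by group) (hd w hw) p
  have hbT : b ^ p ∈ T := by
    refine Subgroup.mem_centralizer_iff.2 fun w hw => ?_
    have hdp : (b * w * b⁻¹ * w⁻¹) ^ p = 1 := by
      have hc : Commute (b * w * b⁻¹) w⁻¹ :=
        isMulCommutative_apply hWc (hWn.conj_mem w hw.1 b) (inv_mem hw.1)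
      rw [hc.mul_pow, conj_pow, inv_pow, hw.2, mul_one, mul_inv_cancel, inv_one, mul_one]
    have h1 := hpow w hw.1
    rw [hdp, one_mul] at h1
    calc w * b ^ p = b ^ p * w * (b ^ p)⁻¹ * b ^ p := by rw [h1]
      _ = b ^ p * w := by group
  intro w hw
  have h1 := hpow w hw
  rw [← Subgroup.mem_centralizer_iff.1 (hTC hbT) w hw, mul_inv_cancel_right] at h1
  have hdp : (b * w * b⁻¹ * w⁻¹) ^ p = 1 := mul_eq_right.1 h1.symm
  have hc : Commute (b * w * b⁻¹) w⁻¹ := isMulCommutative_apply hWc (hWn.conj_mem w hw b) (inv_mem hw)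
  rw [hc.mul_pow, conj_pow, inv_pow, mul_inv_eq_one] at hdp
  calc b * w ^ p = b * w ^ p * b⁻¹ * b := by group
    _ = w ^ p * b := by rw [hdp]

/-- The factorisation. -/
theorem exists_factorization (R : Sylow p Y) (Zs : Set Y)
    (hRz : ∀ z ∈ Zs, ∀ r ∈ (R : Subgroup Y), r * z = z * r)
    {A0 : Subgroup Y} [A0.Normal] (hA0c : IsMulCommutative A0) (hA0p : IsPGroup p A0)
    (hZA0 : Zs ⊆ (A0 : Set Y)) :
    ∃ K : Subgroup Y, K.Normal ∧ (∀ k ∈ K, ∀ z ∈ Zs, k * z ^ p = z ^ p * k) ∧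
      ∃ M : Subgroup Y, M ≤ (R : Subgroup Y) ∧ (R : Subgroup Y) ≤ Subgroup.normalizer (M : Set Y) ∧
        (∀ g : Y, ∃ k ∈ K, ∃ n ∈ Subgroup.normalizer (M : Set Y), g = k * n) ∧
        (∀ Q : Subgroup Y, Q ≤ (R : Subgroup Y) → M ≤ Q → M ≤ abJ Q) ∧
        (M = abJ (R : Subgroup Y) ∨ ∀ T : Subgroup Y, T.Normal → IsPGroup p T → ¬ M ≤ T) := by
  classical
  have hp : p.Prime := Fact.out
  set W := Subgroup.normalClosure Zs with hW
  have hWA : W ≤ A0 := Subgroup.normalClosure_le_normal hZA0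
  have hWc : IsMulCommutative W :=
    ⟨⟨fun a b => Subtype.ext (isMulCommutative_apply hA0c (hWA a.2) (hWA b.2))⟩⟩
  have hWp : IsPGroup p W := hA0p.to_le hWA
  haveI hWn : W.Normal := Subgroup.normalClosure_normal
  have hWR : W ≤ (R : Subgroup Y) := by simpa [cj_one] using normal_pGroup_le_cj R hWp 1
  set C := Subgroup.centralizer (W : Set Y) with hC
  haveI : C.Normal := by rw [hC]; infer_instance
  have hCz : ∀ z ∈ Zs, ∀ c ∈ C, c * z = z * c := fun z hz c hc =>
    (Subgroup.mem_centralizer_iff.1 hc z (Subgroup.subset_normalClosure hz)).symm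
  have hgen : ∀ d : Y, (∀ z ∈ Zs, ∀ g : Y, d * (g * z * g⁻¹) = g * z * g⁻¹ * d) → d ∈ C := by
    intro d hd
    refine Subgroup.mem_centralizer_iff.2 fun w hw => ?_
    have hle : W ≤ Subgroup.centralizer ({d} : Set Y) := by
      rw [hW, Subgroup.normalClosure, Subgroup.closure_le]
      intro w hw
      obtain ⟨z, hz, hzw⟩ := Group.mem_conjugatesOfSet_iff.1 hw
      obtain ⟨g, rfl⟩ := isConj_iff.1 hzw
      exact Subgroup.mem_centralizer_singleton_iff.2 (hd z hz g).symm
    exact Subgroup.mem_centralizer_singleton_iff.1 (hle hw)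
  -- normal `p`-subgroups centralise `W`
  have hnp : ∀ T : Subgroup Y, T.Normal → IsPGroup p T → T ≤ C := by
    intro T hT hTp d hd
    haveI := hT
    refine hgen d fun z hz g => ?_
    have h1 := hRz z hz _ (mem_cj.1 (normal_pGroup_le_cj R hTp g hd))
    calc d * (g * z * g⁻¹) = g * ((g⁻¹ * d * g) * z) * g⁻¹ := by group
      _ = g * (z * (g⁻¹ * d * g)) * g⁻¹ := by rw [h1]
      _ = g * z * g⁻¹ * d := by group
  -- the kernel
  set K := Subgroup.centralizer {y : Y | ∃ w ∈ W, y = w ^ p} with hK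
  haveI hKn : K.Normal := by
    refine ⟨fun t ht g => Subgroup.mem_centralizer_iff.2 ?_⟩
    rintro _ ⟨w, hw, rfl⟩
    have hw' : g⁻¹ * w ^ p * g ∈ {y : Y | ∃ w ∈ W, y = w ^ p} :=
      ⟨g⁻¹ * w * g, by simpa using hWn.conj_mem w hw g⁻¹,
        by rw [show g⁻¹ * w * g = g⁻¹ * w * g⁻¹⁻¹ by rw [inv_inv], conj_pow, inv_inv]⟩
    have h1 := Subgroup.mem_centralizer_iff.1 ht _ hw'
    calc w ^ p * (g * t * g⁻¹) = g * ((g⁻¹ * w ^ p * g) * t) * g⁻¹ := by group
      _ = g * (t * (g⁻¹ * w ^ p * g)) * g⁻¹ := by rw [h1]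
      _ = g * t * g⁻¹ * w ^ p := by group
  have hCK : C ≤ K := Subgroup.centralizer_le (by
    rintro _ ⟨w, hw, rfl⟩
    exact pow_mem hw p)
  refine ⟨K, hKn, fun k hk z hz => (Subgroup.mem_centralizer_iff.1 hk _
    ⟨z, Subgroup.subset_normalClosure hz, rfl⟩).symm, ?_⟩
  set a := abOrder (R : Subgroup Y) with ha
  have hfrat : ∀ (D : Subgroup Y) [D.Normal] (M : Subgroup Y), D ≤ K →
      Subgroup.normalizer (((R : Subgroup Y) ⊓ D : Subgroup Y) : Set Y) ≤ Subgroup.normalizer (M : Set Y) →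
      ∀ g : Y, ∃ k ∈ K, ∃ n ∈ Subgroup.normalizer (M : Set Y), g = k * n := by
    intro D _ M hD hN g
    obtain ⟨n, hn, c, hc, rfl⟩ := exists_frattini R D g
    exact ⟨n * c * n⁻¹, hD ((inferInstance : D.Normal).conj_mem c hc n), n, hN hn, by group⟩
  -- members centralise the `p`-th powers
  have hmemK : ∀ A : Subgroup Y, IsMember p W a A → A ≤ K := by
    intro A hA b hb
    have hd : ∀ w ∈ W, b * (b * w * b⁻¹ * w⁻¹) * b⁻¹ = b * w * b⁻¹ * w⁻¹ := by
      intro w hw
      have h1 : b * w * b⁻¹ * w⁻¹ ∈ A := by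
        have h2 := (Subgroup.mem_normalizer_iff.1 (hA.2.2.2 hw) b⁻¹).1 (inv_mem hb)
        simpa [mul_assoc] using mul_mem hb h2
      rw [isMulCommutative_apply hA.2.1 hb h1, mul_inv_cancel_right]
    refine Subgroup.mem_centralizer_iff.2 ?_
    rintro _ ⟨w, hw, rfl⟩
    exact (quadratic_commute_pow R Zs hRz hA0c hA0p hZA0 hd w hw).symm
  by_cases hmem : ∀ A, IsMember p W a A → A ≤ (R : Subgroup Y) → A ≤ C
  · -- `J(R)` centralises `W`
    have hall : ∀ A ∈ maxAb (R : Subgroup Y), A ≤ C := by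
      by_contra hcon
      push Not at hcon
      haveI : Fintype (Subgroup Y) := Fintype.ofFinite _
      obtain ⟨A, hA, hmax⟩ := Finset.exists_max_image
        (Finset.univ.filter fun A : Subgroup Y => A ∈ maxAb (R : Subgroup Y) ∧ ¬ A ≤ C)
        (fun A => Nat.card ↥(A ⊓ W)) (let ⟨A, h⟩ := hcon; ⟨A, by simp [h.1, h.2]⟩)
      simp only [Finset.mem_filter, Finset.mem_univ, true_and] at hA hmax
      have hnot : ¬ W ≤ Subgroup.normalizer (A : Set Y) := fun h => hA.2 (hmem A
        ⟨R.2.to_le hA.1.1, hA.1.2.1, card_eq_abOrder hA.1, h⟩ hA.1.1)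
      obtain ⟨A', hA', hlt, hA'N⟩ := exists_replacement R.2 hWR
        (by rw [Subgroup.normalizer_eq_top]; exact le_top) hWc hA.1 hnot
      have hA'C : A' ≤ C := by
        by_contra h
        have hcardlt : Nat.card ↥(A ⊓ W) < Nat.card ↥(A' ⊓ W) :=
          lt_of_le_of_ne (Subgroup.card_le_of_le hlt.le)
            fun e => hlt.ne (Subgroup.eq_of_le_of_card_ge hlt.le e.ge)
        exact absurd (hmax A' ⟨hA', h⟩) (by omega)
      refine hnot (le_trans ?_ hA'N)
      intro w hw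
      exact mem_of_centralizes_abelian hA' (hWR hw)
        fun a ha => (Subgroup.mem_centralizer_iff.1 (hA'C ha) w hw).symm
    have hJC : abJ (R : Subgroup Y) ≤ C := by rw [abJ_eq]; exact sSup_le hall
    have hJeq : abJ ((R : Subgroup Y) ⊓ C) = abJ (R : Subgroup Y) := by
      have ha : abOrder ((R : Subgroup Y) ⊓ C) = abOrder (R : Subgroup Y) := by
        refine le_antisymm (abOrder_mono inf_le_left) ?_
        have h := abOrder_mono (le_inf (abJ_le (R : Subgroup Y)) hJC)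
        rwa [abOrder_abJ] at h
      refine le_antisymm (abJ_mono inf_le_left ha) ?_
      have h := abJ_mono (le_inf (abJ_le (R : Subgroup Y)) hJC) ((abOrder_abJ _).trans ha.symm)
      rwa [abJ_abJ] at h
    refine ⟨abJ (R : Subgroup Y), abJ_le _,
      Subgroup.le_normalizer.trans (normalizer_le_normalizer_abJ _),
      hfrat C _ hCK (hJeq ▸ normalizer_le_normalizer_abJ _), ?_, Or.inl rfl⟩
    intro Q hQR hMQ
    have heq : abOrder Q = abOrder (R : Subgroup Y) := by
      refine le_antisymm (abOrder_mono hQR) ?_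
      have := abOrder_mono hMQ
      rwa [abOrder_abJ] at this
    have h := abJ_mono hMQ ((abOrder_abJ _).trans heq.symm)
    rwa [abJ_abJ] at h
  · push Not at hmem
    obtain ⟨A, hA, hAR, hAC⟩ := hmem
    set M := memJ p W a (R : Subgroup Y) with hM
    have hMK : M ≤ K := sSup_le fun B hB => hmemK B hB.1
    have hMeq : memJ p W a ((R : Subgroup Y) ⊓ K) = M := by
      refine le_antisymm (memJ_mono inf_le_left) ?_
      rw [hM, ← memJ_memJ (R : Subgroup Y)]
      exact memJ_mono (le_inf (memJ_le _) hMK)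
    refine ⟨M, memJ_le _, Subgroup.le_normalizer.trans (normalizer_le_normalizer_memJ _),
      hfrat K _ le_rfl (hMeq ▸ normalizer_le_normalizer_memJ _), ?_, Or.inr ?_⟩
    · intro Q hQR hMQ
      refine sSup_le fun B hB => ?_
      have hBQ : B ≤ Q := (le_memJ hB.1 hB.2).trans hMQ
      exact le_abJ (mem_maxAb hBQ hB.1.2.1 ((abOrder_mono hQR).trans hB.1.2.2.1.ge))
    · exact fun T hT hTp hMT => hAC (((le_memJ hA hAR).trans hMT).trans (hnp T hT hTp))

/-- An element carrying a subgroup of `R` into `R` splits compatibly with a factorisation. -/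
theorem exists_split (R : Sylow p Y) {K M : Subgroup Y} [K.Normal]
    (hRM : (R : Subgroup Y) ≤ Subgroup.normalizer (M : Set Y))
    (hfac : ∀ g : Y, ∃ k ∈ K, ∃ n ∈ Subgroup.normalizer (M : Set Y), g = k * n)
    {P : Subgroup Y} (hP : P ≤ (R : Subgroup Y)) {g : Y} (hg : cj g P ≤ (R : Subgroup Y)) :
    ∃ k ∈ K, ∃ h ∈ Subgroup.normalizer (M : Set Y), g = k * h ∧ cj h P ≤ (R : Subgroup Y) := by
  obtain ⟨k, hk, n, hn, rfl⟩ := hfac g
  set H := ((R : Subgroup Y) ⊔ K) ⊓ Subgroup.normalizer (M : Set Y) with hH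
  have hnP : cj n P ≤ H := by
    intro y hy
    have h1 : k * y * k⁻¹ ∈ (R : Subgroup Y) := by
      refine hg (mem_cj.2 ?_)
      have h2 := mem_cj.1 hy
      convert h2 using 1
      group
    refine ⟨?_, ?_⟩
    · have h2 := mul_mem (mul_mem (Subgroup.mem_sup_right (S := (R : Subgroup Y)) (inv_mem hk))
        (Subgroup.mem_sup_left (T := K) h1)) (Subgroup.mem_sup_right (S := (R : Subgroup Y)) hk)
      simpa [mul_assoc] using h2
    · obtain ⟨x, hx, rfl⟩ := hy
      show n * x * n⁻¹ ∈ Subgroup.normalizer (M : Set Y)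
      exact mul_mem (mul_mem hn (hRM (hP hx))) (inv_mem hn)
  obtain ⟨P1, hP1⟩ := ((R.2.to_le hP).map (MulAut.conj n).toMonoidHom |>.comap_of_injective H.subtype
    H.subtype_injective).exists_le_sylow
  have hRH : (R : Subgroup Y) ≤ H := le_inf le_sup_left hRM
  obtain ⟨m, hm⟩ := MulAction.exists_smul_eq H P1 (R.subtype hRH)
  obtain ⟨r, hr, k', hk', hrk⟩ := Subgroup.mem_sup_of_normal_right.1 m.2.1
  have hk'N : k' ∈ Subgroup.normalizer (M : Set Y) := by
    have : k' = r⁻¹ * (m : Y) := by rw [← hrk]; group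
    rw [this]
    exact mul_mem (inv_mem (hRM hr)) m.2.2
  refine ⟨k * k'⁻¹, mul_mem hk (inv_mem hk'), k' * n, mul_mem hk'N hn, by group, ?_⟩
  rintro _ ⟨x, hx, rfl⟩
  have h1 : (⟨n * x * n⁻¹, hnP ⟨x, hx, rfl⟩⟩ : H) ∈ (P1 : Subgroup H) := hP1 ⟨x, hx, rfl⟩
  have h2 : m * ⟨n * x * n⁻¹, hnP ⟨x, hx, rfl⟩⟩ * m⁻¹ ∈ ((R.subtype hRH : Sylow p H) : Subgroup H) := by
    rw [← hm]
    exact ⟨_, h1, rfl⟩
  have h3 : (m : Y) * (n * x * n⁻¹) * (m : Y)⁻¹ ∈ (R : Subgroup Y) := h2
  rw [← hrk] at h3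
  show k' * n * x * (k' * n)⁻¹ ∈ (R : Subgroup Y)
  have h4 := mul_mem (mul_mem (inv_mem hr) h3) hr
  convert h4 using 1
  group

end CfsgLib.WeakClosureJ
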