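import Cfsg.Agent.WeakClosureJ.MaxAbelian
import Cfsg.Agent.CharP.PCore
import Cfsg.Agent.Constrained.Basic

/-!
The abelian `p`-subgroups of largest order normalised by a normal subgroup `W`, and the subgroup they
generate inside a given subgroup.
-/

set_option autoImplicit false

namespace CfsgLib.WeakClosureJ

open Cfsg CfsgLib.GlaubermanZJ

variable {Y : Type*} [Group Y]

/-- An abelian `p`-subgroup of order `a` normalised by `W`. -/
def IsMember (p : ℕ) (W : Subgroup Y) (a : ℕ) (A : Subgroup Y) : Prop :=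
  IsPGroup p A ∧ IsMulCommutative A ∧ Nat.card A = a ∧ W ≤ Subgroup.normalizer (A : Set Y)

/-- The subgroup generated by the members inside `T`. -/
def memJ (p : ℕ) (W : Subgroup Y) (a : ℕ) (T : Subgroup Y) : Subgroup Y :=
  sSup {A | IsMember p W a A ∧ A ≤ T}

variable {p : ℕ} {W : Subgroup Y} {a : ℕ}

theorem memJ_le (T : Subgroup Y) : memJ p W a T ≤ T := sSup_le fun _ h => h.2

theorem le_memJ {T A : Subgroup Y} (hA : IsMember p W a A) (h : A ≤ T) : A ≤ memJ p W a T :=
  le_sSup ⟨hA, h⟩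

theorem memJ_mono {T T' : Subgroup Y} (h : T ≤ T') : memJ p W a T ≤ memJ p W a T' :=
  sSup_le fun _ hA => le_memJ hA.1 (hA.2.trans h)

theorem memJ_memJ (T : Subgroup Y) : memJ p W a (memJ p W a T) = memJ p W a T :=
  le_antisymm (memJ_le _) (sSup_le fun _ hA => le_memJ hA.1 (le_memJ hA.1 hA.2))

theorem IsMember.conj [Finite Y] [W.Normal] {A : Subgroup Y} (hA : IsMember p W a A) (g : Y) :
    IsMember p W a (cj g A) := by
  refine ⟨hA.1.map _, isMulCommutative_map _ hA.2.1, by rw [card_cj]; exact hA.2.2.1, fun w hw => ?_⟩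
  refine mem_normalizer_of_cj_le (le_of_eq ?_)
  have hw' : g⁻¹ * w * g ∈ Subgroup.normalizer (A : Set Y) :=
    hA.2.2.2 (by simpa using (inferInstance : W.Normal).conj_mem w hw g⁻¹)
  rw [← cj_mul, show w * g = g * (g⁻¹ * w * g) by group, cj_mul, cj_eq_of_mem_normalizer hw']

theorem memJ_cj [Finite Y] [W.Normal] (g : Y) (T : Subgroup Y) :
    memJ p W a (cj g T) = cj g (memJ p W a T) := by
  have key : ∀ (g : Y) (T : Subgroup Y), cj g (memJ p W a T) ≤ memJ p W a (cj g T) := by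
    intro g T
    rw [cj, Subgroup.map_le_iff_le_comap]
    exact sSup_le fun A hA =>
      Subgroup.map_le_iff_le_comap.1 (le_memJ (hA.1.conj g) (cj_mono g hA.2))
  refine le_antisymm ?_ (key g T)
  have h := cj_mono g (key g⁻¹ (cj g T))
  rwa [← cj_mul, mul_inv_cancel, cj_one, cj_inv_cj] at h

theorem normalizer_le_normalizer_memJ [Finite Y] [W.Normal] (T : Subgroup Y) :
    Subgroup.normalizer (T : Set Y) ≤ Subgroup.normalizer (memJ p W a T : Set Y) := fun g hg =>
  mem_normalizer_of_cj_le (by rw [← memJ_cj, cj_eq_of_mem_normalizer hg])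

/-- A proper subgroup of a `p`-group is proper in its normaliser. -/
theorem exists_normalizer_gt [Finite Y] [Fact p.Prime] {P Q : Subgroup Y} (hP : IsPGroup p P)
    (hQP : Q ≤ P) (hne : Q ≠ P) : ∃ y ∈ P, y ∈ Subgroup.normalizer (Q : Set Y) ∧ y ∉ Q := by
  haveI := hP.isNilpotent
  have hlt : Q.subgroupOf P < ⊤ := lt_top_iff_ne_top.2 fun h => hne (le_antisymm hQP
    (Subgroup.subgroupOf_eq_top.1 h))
  obtain ⟨y, hy, hyQ⟩ := SetLike.exists_of_lt (Group.normalizerCondition_of_isNilpotent _ hlt)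
  refine ⟨y, y.2, mem_normalizer_of_cj_le ?_, hyQ⟩
  rintro _ ⟨t, ht, rfl⟩
  exact (Subgroup.mem_normalizer_iff.1 hy ⟨t, hQP ht⟩).1 ht

/-- Every `p`-subgroup lies in a conjugate of a given Sylow subgroup. -/
theorem exists_le_cj [Finite Y] [Fact p.Prime] (R : Sylow p Y) {D : Subgroup Y} (hD : IsPGroup p D) :
    ∃ g : Y, D ≤ cj g (R : Subgroup Y) := by
  obtain ⟨P, hP⟩ := hD.exists_le_sylow
  obtain ⟨g, rfl⟩ := MulAction.exists_smul_eq Y R P
  exact ⟨g, hP⟩

theorem normal_pGroup_le_cj [Finite Y] [Fact p.Prime] (R : Sylow p Y) {N : Subgroup Y} [N.Normal]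
    (hN : IsPGroup p N) (g : Y) : N ≤ cj g (R : Subgroup Y) :=
  ((CfsgLib.Constrained.le_pCore inferInstance hN).trans (CfsgLib.CharP.pCore_le_sylow (g • R))).trans
    le_rfl

end CfsgLib.WeakClosureJ
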